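import Mathlib
import Cfsg.Prelude.Def_Characters
import Cfsg.Agent.Characters.Core
import Cfsg.Agent.Characters.Values

/-!
# Characters constant on the nonidentity elements of a subgroup
-/

set_option autoImplicit false
open Cfsg
open scoped ComplexConjugate

namespace Cfsg.Agent.H30.ConstVal

open Cfsg.Agent.Characters.Core Cfsg.Agent.Characters.Values

/-- In a simple group, an irreducible character taking its degree at a nonidentity element is
principal. -/
theorem eq_one_of_apply_eq {G : Type*} [Group G] [Finite G] [IsSimpleGroup G] {χ : G → ℂ}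
    (hχ : IsIrrCharacter G χ) {x : G} (hx : x ≠ 1) (h : χ x = χ 1) : χ = 1 := by
  have := Fintype.ofFinite G
  by_contra hne
  have h0 := classInner_irr_ne hχ isIrr_one hne
  obtain ⟨n, ρ, hρ, rfl⟩ := hχ
  have h1 : ρ.character 1 = (Module.finrank ℂ (Fin n → ℂ) : ℂ) := by simp
  have h2 : ρ x = LinearMap.id := (character_eq_finrank_iff ρ x).1 (h.trans h1)
  have h3 : MonoidHom.ker ρ = ⊤ := by
    rcases IsSimpleGroup.eq_bot_or_eq_top_of_normal (MonoidHom.ker ρ) inferInstance with h4 | h4
    · exfalso
      have h5 : x ∈ MonoidHom.ker ρ := MonoidHom.mem_ker.2 h2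
      rw [h4, Subgroup.mem_bot] at h5
      exact hx h5
    · exact h4
  have h4 : ∀ g : G, ρ.character g = ρ.character 1 := by
    intro g
    have h5 : g ∈ MonoidHom.ker ρ := by rw [h3]; exact Subgroup.mem_top g
    have h6 : ρ g = ρ 1 := by rw [MonoidHom.mem_ker.1 h5, map_one]
    rw [Representation.character, Representation.character, h6]
  have h5 : ρ.character 1 ≠ 0 := isIrr_apply_one_ne_zero ⟨n, ρ, hρ, rfl⟩
  apply h5
  rw [classInner_def] at h0
  have hc : (Nat.card G : ℂ) ≠ 0 := card_ne_zero_complex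
  simp only [h4, Pi.one_apply, map_one, mul_one, Finset.sum_const, Finset.card_univ,
    nsmul_eq_mul] at h0
  rw [← Nat.card_eq_fintype_card, ← mul_assoc, inv_mul_cancel₀ hc, one_mul] at h0
  exact h0

/-- A character constant on the nonidentity elements of a subgroup `P ≠ 1`: the value is a rational
integer, and it is the degree or at most the degree minus the order of `P`. -/
theorem exists_int {G : Type*} [Group G] [Finite G] {χ : G → ℂ} (hχ : IsCharacter G χ)
    (P : Subgroup G) (hP : P ≠ ⊥) (a : ℂ) (ha : ∀ x ∈ P, x ≠ 1 → χ x = a) (d : ℕ)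
    (hd : χ 1 = d) : ∃ z : ℤ, a = z ∧ (z = d ∨ z + Nat.card P ≤ d) := by
  classical
  have := Fintype.ofFinite P
  obtain ⟨⟨x, hxP⟩, hx1'⟩ := Subgroup.ne_bot_iff_exists_ne_one.1 hP
  have hx1 : x ≠ 1 := fun h => hx1' (Subtype.ext h)
  obtain ⟨m, hm⟩ := classInner_isNat (isCharacter_comp P.subtype hχ) (isCharacter_one (G := P))
  have hq : (Nat.card P : ℂ) ≠ 0 := card_ne_zero_complex
  -- the equation
  have h1 : (d : ℂ) + ((Nat.card P : ℂ) - 1) * a = Nat.card P * m := by
    rw [classInner_def] at hm
    have h2 : ∑ g : P, (χ ∘ P.subtype) g * conj ((1 : P → ℂ) g) =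
        (d : ℂ) + ((Nat.card P : ℂ) - 1) * a := by
      rw [← Finset.add_sum_erase Finset.univ _ (Finset.mem_univ (1 : P))]
      congr 1
      · simp [hd]
      · rw [Finset.sum_congr rfl (g := fun _ => a)]
        · rw [Finset.sum_const, Finset.card_erase_of_mem (Finset.mem_univ _), Finset.card_univ,
            ← Nat.card_eq_fintype_card, nsmul_eq_mul, Nat.cast_sub Nat.card_pos, Nat.cast_one]
        · intro g hg
          have hg1 : g ≠ 1 := (Finset.mem_erase.1 hg).1
          have : χ g = a := ha g g.2 fun h => hg1 (Subtype.ext h)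
          simp [this]
    rw [h2] at hm
    rw [← hm, ← mul_assoc, mul_inv_cancel₀ hq, one_mul]
  have hax : χ x = a := ha x hxP hx1
  obtain ⟨n, ρ, rfl⟩ := hχ
  have hfin : (Module.finrank ℂ (Fin n → ℂ)) = d := by
    have : ρ.character 1 = (Module.finrank ℂ (Fin n → ℂ) : ℂ) := Representation.char_one ρ
    rw [hd] at this
    exact_mod_cast this.symm
  have hint : IsIntegral ℤ a := hax ▸ character_isIntegral ρ x
  have hnorm : ‖a‖ ≤ d := by
    have := norm_character_le ρ x
    rwa [hax, hfin] at this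
  have hq1 : 1 < Nat.card P := (Subgroup.one_lt_card_iff_ne_bot P).2 hP
  have hq1' : ((Nat.card P : ℚ) - 1) ≠ 0 := by
    have : (1 : ℚ) < Nat.card P := by exact_mod_cast hq1
    linarith
  have hq1'' : ((Nat.card P : ℂ) - 1) ≠ 0 := by exact_mod_cast hq1'
  have h2 : a = algebraMap ℚ ℂ (((Nat.card P : ℚ) * m - d) / ((Nat.card P : ℚ) - 1)) := by
    have : a = ((Nat.card P : ℂ) * m - d) / ((Nat.card P : ℂ) - 1) := by
      rw [eq_div_iff hq1'']
      linear_combination h1
    rw [this]
    simp
  rw [h2] at hint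
  have h3 := (isIntegral_algebraMap_iff (algebraMap ℚ ℂ).injective).1 hint
  obtain ⟨z, hz⟩ := IsIntegrallyClosed.isIntegral_iff.1 h3
  have haz : a = z := by
    rw [h2, ← hz]
    simp
  refine ⟨z, haz, ?_⟩
  have h4 : (d : ℤ) + ((Nat.card P : ℤ) - 1) * z = Nat.card P * m := by
    rw [haz] at h1
    exact_mod_cast h1
  have h5 : z ≤ d := by
    rw [haz] at hnorm
    have h6 : ‖(z : ℂ)‖ = |(z : ℝ)| := by
      rw [← Complex.ofReal_intCast, Complex.norm_real, Real.norm_eq_abs]
    rw [h6] at hnorm
    exact_mod_cast (le_abs_self _).trans hnorm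
  rcases le_or_gt ((m : ℤ) - z) 0 with h6 | h6
  · left
    have : (d : ℤ) - z = Nat.card P * (m - z) := by linear_combination h4
    nlinarith
  · right
    have : (d : ℤ) - z = Nat.card P * (m - z) := by linear_combination h4
    nlinarith

end Cfsg.Agent.H30.ConstVal
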