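import Mathlib
import Cfsg.Prelude.Def_Local
import Cfsg.Agent.Lib.PSolvable

/-!
# Two elements of order `p` generating a `p`-solvable group with abelian Sylow subgroups

For `p` odd, at most one of `w * u` and `w⁻¹ * u` has order prime to `p`.
-/

set_option autoImplicit false
open Cfsg

namespace Cfsg.Agent.H30.PairLocal

open Cfsg.Agent.Lib.HallHigman Cfsg.Agent.Lib.PSolvable

/-- A `p`-solvable group with abelian `p`-subgroups: modulo the `p'`-core every `p`-subgroup lies in
the `p`-core. -/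
theorem le_pCore_of_isPGroup {H : Type*} [Group H] [Finite H] {p : ℕ} [hp : Fact p.Prime]
    (hab : ∀ Q : Subgroup H, IsPGroup p Q → IsMulCommutative Q) (hsol : IsPSolvable p H)
    (N : Subgroup H) [N.Normal] (hN : N = pPrimeCore p H) (A : Subgroup (H ⧸ N))
    (hA : IsPGroup p A) : A ≤ pCore p (H ⧸ N) := by
  have hf : Function.Surjective (QuotientGroup.mk' N) := QuotientGroup.mk'_surjective N
  have h0 : pPrimeCore p (H ⧸ N) = ⊥ := pPrimeCore_quotient_eq_bot p N hN
  have h1 : Subgroup.centralizer (pCore p (H ⧸ N) : Set (H ⧸ N)) ≤ pCore p (H ⧸ N) :=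
    centralizer_pCore_le_of_pSolvable p (IsPSolvable_of_surjective p hsol _ hf) h0
  obtain ⟨R, hR⟩ := hA.exists_le_sylow
  refine hR.trans (le_trans ?_ h1)
  obtain ⟨P, rfl⟩ := Sylow.mapSurjective_surjective hf p R
  have hP := hab P P.2
  intro x hx
  rw [Subgroup.mem_centralizer_iff]
  intro y hy
  have hy' : y ∈ (P.mapSurjective hf : Subgroup (H ⧸ N)) := pCore_le_sylow p _ hy
  rw [Sylow.coe_mapSurjective] at hx hy'
  obtain ⟨a, ha, rfl⟩ := hx
  obtain ⟨b, hb, rfl⟩ := hy'
  have hab : b * a = a * b :=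
    congrArg Subtype.val (hP.is_comm.comm (⟨b, hb⟩ : P) ⟨a, ha⟩)
  rw [← map_mul, ← map_mul, hab]

/-- **Local lemma.** -/
theorem dvd_or_dvd {G : Type*} [Group G] [Finite G] {p : ℕ} [hp : Fact p.Prime] (hodd : p ≠ 2)
    (hab : ∀ Q : Subgroup G, IsPGroup p Q → IsMulCommutative Q)
    {u w : G} (hu : orderOf u = p) (hw : orderOf w = p)
    (hsol : IsPSolvable p (Subgroup.closure ({w, u} : Set G))) :
    p ∣ orderOf (w * u) ∨ p ∣ orderOf (w⁻¹ * u) := by
  by_contra hcon
  push Not at hcon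
  obtain ⟨hc1, hc2⟩ := hcon
  set H := Subgroup.closure ({w, u} : Set G) with hH
  have hwH : w ∈ H := Subgroup.subset_closure (by simp)
  have huH : u ∈ H := Subgroup.subset_closure (by simp)
  set N := pPrimeCore p H with hN
  have hNn : N.Normal := Cfsg.Agent.Lib.HallHigman.pPrimeCore_normal p
  have habH : ∀ Q : Subgroup H, IsPGroup p Q → IsMulCommutative Q := by
    intro Q hQ
    have h1 := hab (Q.map H.subtype) (hQ.map _)
    refine ⟨⟨fun x y => ?_⟩⟩
    have h2 := h1.is_comm.comm (⟨H.subtype x, Subgroup.mem_map_of_mem _ x.2⟩ : Q.map H.subtype)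
      ⟨H.subtype y, Subgroup.mem_map_of_mem _ y.2⟩
    have h3 := congrArg Subtype.val h2
    apply Subtype.ext
    apply Subtype.ext
    exact h3
  have key := le_pCore_of_isPGroup habH hsol N hN
  let π := QuotientGroup.mk' N
  have hpc : IsPGroup p (pCore p (H ⧸ N)) := pCore_isPGroup p
  have hmem : ∀ x : H, orderOf x = p → π x ∈ pCore p (H ⧸ N) := by
    intro x hx
    refine key (Subgroup.zpowers (π x)) ?_ (Subgroup.mem_zpowers _)
    have h1 : IsPGroup p (Subgroup.zpowers x) := by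
      refine IsPGroup.of_card (n := 1) ?_
      rw [Nat.card_zpowers, hx, pow_one]
    have h2 := h1.map π
    rwa [MonoidHom.map_zpowers] at h2
  have hreg : ∀ x : H, ¬ p ∣ orderOf x → π x ∈ pCore p (H ⧸ N) → π x = 1 := by
    intro x hx hxm
    obtain ⟨k, hk⟩ := hpc ⟨π x, hxm⟩
    have h1 : (π x) ^ p ^ k = 1 := by
      have := congrArg Subtype.val hk
      simpa using this
    have h2 : orderOf (π x) ∣ p ^ k := orderOf_dvd_of_pow_eq_one h1
    have h3 : orderOf (π x) ∣ orderOf x := orderOf_map_dvd π x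
    have h4 : Nat.Coprime (p ^ k) (orderOf x) :=
      Nat.Coprime.pow_left _ ((Nat.Prime.coprime_iff_not_dvd hp.out).2 hx)
    exact orderOf_eq_one_iff.1 (Nat.eq_one_of_dvd_coprimes h4 h2 h3)
  set W : H := ⟨w, hwH⟩ with hWdef
  set U : H := ⟨u, huH⟩ with hUdef
  have hWo : orderOf W = p := by rw [hWdef, Subgroup.orderOf_mk, hw]
  have hUo : orderOf U = p := by rw [hUdef, Subgroup.orderOf_mk, hu]
  have hWm := hmem W hWo
  have hUm := hmem U hUo
  have h1 : π (W * U) = 1 := by
    apply hreg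
    · have : orderOf (W * U) = orderOf (w * u) := by
        rw [← Subgroup.orderOf_coe]; rfl
      rwa [this]
    · rw [map_mul]; exact mul_mem hWm hUm
  have h2 : π (W⁻¹ * U) = 1 := by
    apply hreg
    · have : orderOf (W⁻¹ * U) = orderOf (w⁻¹ * u) := by
        rw [← Subgroup.orderOf_coe]; rfl
      rwa [this]
    · rw [map_mul, map_inv]; exact mul_mem (inv_mem hWm) hUm
  rw [map_mul] at h1 h2
  rw [map_inv] at h2
  have h3 : π U = π W := by
    have := inv_mul_eq_one.1 h2
    exact this.symm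
  rw [h3] at h1
  have h4 : (π W) ^ 2 = 1 := by rw [pow_two]; exact h1
  have h5 : (π W) ^ p = 1 := by
    rw [← map_pow, ← hWo, pow_orderOf_eq_one, map_one]
  have h6 : orderOf (π W) = 1 := by
    refine Nat.eq_one_of_dvd_coprimes ?_ (orderOf_dvd_of_pow_eq_one h4)
      (orderOf_dvd_of_pow_eq_one h5)
    exact (Nat.coprime_primes Nat.prime_two hp.out).2 (Ne.symm hodd)
  have h7 : W ∈ N := (QuotientGroup.eq_one_iff W).1 (orderOf_eq_one_iff.1 h6)
  have h8 : (Nat.card N).Coprime p := pPrimeCore_coprime p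
  have h9 : orderOf W ∣ Nat.card N := by
    have := orderOf_dvd_natCard (⟨W, h7⟩ : N)
    rwa [Subgroup.orderOf_mk] at this
  rw [hWo] at h9
  exact (Nat.Prime.coprime_iff_not_dvd hp.out).1 h8.symm h9

end Cfsg.Agent.H30.PairLocal
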