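import Mathlib
import Cfsg.Prelude.Def_Blocks
import Cfsg.Prelude.Def_Local
import Cfsg.Agent.Characters.Core
import Cfsg.Agent.Characters.ClassMul
import Cfsg.Agent.Blocks.Basic
import Cfsg.Agent.Blocks.ExistsModular
import Cfsg.Agent.Blocks.PPart
import Cfsg.Agent.Blocks.SectionCount
import Cfsg.Agent.S0942
import Cfsg.Agent.S0947
import Cfsg.Agent.S0952
import Cfsg.Agent.H30.ConstVal
import Cfsg.Agent.H30.PairLocal
import Cfsg.Agent.H30.Arith

/-!
# Groups with one class of nonidentity `p`-elements whose centralizers have normal `p`-complements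

For a finite group with one class of nonidentity `p`-elements, all of order `p` and with
`p`-nilpotent centralizers, the principal block characters are constant on the `p`-singular
elements; expanding the indicator of the `p`-singular elements through them bounds the number of
products of two elements of order `p` that are `p`-singular.
-/

set_option autoImplicit false
open Cfsg
open scoped ComplexConjugate

namespace Cfsg.Agent.H30.OneClass

open Cfsg.Agent.Characters.Core Cfsg.Agent.Characters.ClassMul Cfsg.Agent.Blocks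

/-- A normal `p`-complement makes the index of the `p'`-core a power of `p`. -/
theorem index_pPrimeCore {C : Type*} [Group C] [Finite C] {p : ℕ} [hp : Fact p.Prime]
    (h : HasNormalPComplement p C) : ∃ k : ℕ, (pPrimeCore p C).index = p ^ k := by
  obtain ⟨P, N, hN, hc⟩ := h
  have h1 : Nat.card N * Nat.card P = Nat.card C := hc.card_mul_card
  have h2 : N.index = Nat.card P := hc.symm.index_eq_card
  have h3 : (Nat.card N).Coprime p := by
    have h4 : Nat.card N = (P : Subgroup C).index := by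
      have h5 := (P : Subgroup C).card_mul_index
      have h6 : 0 < Nat.card P := Nat.card_pos
      have h7 : Nat.card P * Nat.card N = Nat.card P * (P : Subgroup C).index := by
        rw [h5, ← h1, mul_comm]
      exact Nat.eq_of_mul_eq_mul_left h6 h7
    rw [h4]
    exact ((Nat.Prime.coprime_iff_not_dvd hp.out).2 P.not_dvd_index).symm
  have h4 : N ≤ pPrimeCore p C := Cfsg.Agent.Lib.HallHigman.le_pPrimeCore hN h3
  have h5 : (pPrimeCore p C).index ∣ N.index := Subgroup.index_dvd_of_le h4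
  obtain ⟨n, hn⟩ := IsPGroup.iff_card.1 P.isPGroup'
  rw [h2, hn] at h5
  obtain ⟨k, -, hk⟩ := (Nat.dvd_prime_pow hp.out).1 h5
  exact ⟨k, hk⟩

/-- The characters of the principal block are constant on the `p`-singular elements. -/
theorem const_singular {G : Type*} [Group G] [Finite G] {p : ℕ} [hp : Fact p.Prime]
    {M : Ideal AlgInt} (hM : IsPModular p M) (x₀ : G) (hx₀ : orderOf x₀ = p)
    (hK : ∀ x : G, x ≠ 1 → (∃ k : ℕ, orderOf x = p ^ k) → IsConj x x₀)
    (hb : ∃ k : ℕ, (pPrimeCore p (Subgroup.centralizer ({x₀} : Set G))).index = p ^ k)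
    (χ : IrrCharacter G) (hχ : χ ∈ principalBlock M G) (g : G) (hg : p ∣ orderOf g) :
    (χ : G → ℂ) g = (χ : G → ℂ) x₀ := by
  obtain ⟨x, y, rfl, hxy, hx, hy⟩ := PPart.exists_isPPart p g
  have hx1 : x ≠ 1 := by
    rintro rfl
    rw [one_mul] at hg
    exact hy hg
  obtain ⟨c, hc⟩ := isConj_iff.1 (hK x hx1 hx)
  have h1 : (χ : G → ℂ) (x * y) = (χ : G → ℂ) (x₀ * (c * y * c⁻¹)) := by
    rw [← isIrr_isClassFunction χ.2 (x * y) c, ← hc]
    group
  rw [h1]
  have hcomm : Commute x₀ (c * y * c⁻¹) := by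
    rw [← hc]
    exact hxy.map (MulAut.conj c).toMonoidHom
  have hmem : c * y * c⁻¹ ∈ Subgroup.centralizer ({x₀} : Set G) :=
    Subgroup.mem_centralizer_singleton_iff.2 hcomm.symm.eq
  refine Cfsg.Agent.S0942.result p M hM x₀ ⟨1, by rw [hx₀, pow_one]⟩ _ ?_ χ hχ
  refine ⟨⟨c * y * c⁻¹, hmem⟩, ?_, rfl⟩
  refine (SectionCount.mem_pPrimeCore_iff p hb _).2 ?_
  rw [Subgroup.orderOf_mk]
  have h2 : orderOf (c * y * c⁻¹) = orderOf y :=
    orderOf_injective (MulAut.conj c).toMonoidHom (MulAut.conj c).injective y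
  rw [h2]
  exact hy

open scoped Classical in
/-- The indicator of the `p`-singular elements is orthogonal to the irreducible characters outside
the principal block. -/
theorem inner_eq_zero {G : Type*} [Group G] [Fintype G] {p : ℕ} [hp : Fact p.Prime]
    {M : Ideal AlgInt} (hM : IsPModular p M) (χ : IrrCharacter G) (hχ : χ ∉ principalBlock M G) :
    classInner (fun g : G => if p ∣ orderOf g then (1 : ℂ) else 0) (χ : G → ℂ) = 0 := by
  have hne : (1 : G → ℂ) ≠ (χ : G → ℂ) := by
    intro h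
    apply hχ
    have h1 : χ = (⟨1, isIrr_one⟩ : IrrCharacter G) := Subtype.ext h.symm
    rw [h1]
    have := hM.2.1.isPrime
    exact Basic.mem_blockOf_self (⟨1, isIrr_one⟩ : IrrCharacter G)
  have h0 : classInner (1 : G → ℂ) (χ : G → ℂ) = 0 := classInner_irr_ne isIrr_one χ.2 hne
  have h1 := Cfsg.Agent.S0952.result p M hM (⟨1, isIrr_one⟩ : IrrCharacter G) χ hχ
  have h2 : ∑ᶠ x ∈ {x : G | ¬ p ∣ orderOf x},
      ((⟨1, isIrr_one⟩ : IrrCharacter G) : G → ℂ) x * conj ((χ : G → ℂ) x) =
      ∑ g : G, (if p ∣ orderOf g then (0 : ℂ) else 1) * conj ((χ : G → ℂ) g) := by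
    rw [finsum_mem_def, finsum_eq_sum_of_fintype]
    refine Finset.sum_congr rfl fun g _ => ?_
    by_cases hg : p ∣ orderOf g
    · simp [hg]
    · simp [hg]
  rw [h2] at h1
  rw [classInner_def] at h0 ⊢
  have hc : (Nat.card G : ℂ) ≠ 0 := card_ne_zero_complex
  have h3 : ∑ g : G, (1 : G → ℂ) g * conj ((χ : G → ℂ) g) = 0 := by
    rcases mul_eq_zero.1 h0 with h | h
    · exact absurd h (inv_ne_zero hc)
    · exact h
  have h4 : ∑ g : G, (if p ∣ orderOf g then (1 : ℂ) else 0) * conj ((χ : G → ℂ) g) = 0 := by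
    have h5 : ∑ g : G, (if p ∣ orderOf g then (1 : ℂ) else 0) * conj ((χ : G → ℂ) g) =
        ∑ g : G, (1 : G → ℂ) g * conj ((χ : G → ℂ) g) -
        ∑ g : G, (if p ∣ orderOf g then (0 : ℂ) else 1) * conj ((χ : G → ℂ) g) := by
      rw [← Finset.sum_sub_distrib]
      refine Finset.sum_congr rfl fun g _ => ?_
      split_ifs <;> simp
    rw [h5, h3, h1, sub_zero]
  rw [h4, mul_zero]

/-- **Main theorem.** A finite simple group with one class of nonidentity `p`-elements, all of order `p`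
and with centralizers having a normal `p`-complement, has two elements `w, u` of order `p` with `w * u`
and `w⁻¹ * u` of order prime to `p`. -/
theorem contradiction {G : Type*} [Group G] [Finite G] [IsSimpleGroup G] {p : ℕ} [hp : Fact p.Prime]
    (P : Sylow p G) (x₀ : G) (hx₀P : x₀ ∈ (P : Subgroup G)) (hx₀ : orderOf x₀ = p)
    (hK : ∀ x : G, x ≠ 1 → (∃ k : ℕ, orderOf x = p ^ k) → IsConj x x₀)
    (hb : ∃ k : ℕ, (pPrimeCore p (Subgroup.centralizer ({x₀} : Set G))).index = p ^ k)
    (hloc : ∀ w u : G, orderOf w = p → orderOf u = p → p ∣ orderOf (w * u) ∨ p ∣ orderOf (w⁻¹ * u)) :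
    False := by
  classical
  have := Fintype.ofFinite G
  have : Finite (IrrCharacter G) := finite_irr
  have := Fintype.ofFinite (IrrCharacter G)
  obtain ⟨M, hM⟩ := ExistsModular.exists_isPModular hp.out
  have hMp : M.IsPrime := hM.2.1.isPrime
  have hx₀1 : x₀ ≠ 1 := by
    rintro rfl
    rw [orderOf_one] at hx₀
    exact hp.out.one_lt.ne hx₀
  have hPne : (P : Subgroup G) ≠ ⊥ := by
    intro h
    rw [h, Subgroup.mem_bot] at hx₀P
    exact hx₀1 hx₀P
  have hG0 : (Nat.card G : ℂ) ≠ 0 := card_ne_zero_complex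
  -- the values
  have hex : ∀ χ : IrrCharacter G, ∃ z : ℤ, ∃ d : ℕ, 0 < d ∧ (χ : G → ℂ) 1 = d ∧
      (χ ∈ principalBlock M G → ∀ g, p ∣ orderOf g → (χ : G → ℂ) g = z) ∧
      (χ ∉ principalBlock M G → z = 0) ∧
      (χ ≠ ⟨1, isIrr_one⟩ → 0 < z → z + Nat.card P ≤ d) := by
    intro χ
    obtain ⟨d, hd0, hd⟩ := isIrr_apply_one χ.2
    by_cases hχ : χ ∈ principalBlock M G
    · have h1 := const_singular hM x₀ hx₀ hK hb χ hχ
      obtain ⟨z, hz1, hz2⟩ := ConstVal.exists_int (isIrr_isCharacter χ.2) (P : Subgroup G) hPne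
        ((χ : G → ℂ) x₀) (fun x hx hx1 => by
          have h2 : ∃ k : ℕ, orderOf x = p ^ k := by
            obtain ⟨k, hk⟩ := IsPGroup.iff_orderOf.1 P.isPGroup' ⟨x, hx⟩
            exact ⟨k, by rw [← hk, Subgroup.orderOf_mk]⟩
          obtain ⟨c, hc⟩ := isConj_iff.1 (hK x hx1 h2)
          rw [← hc, isIrr_isClassFunction χ.2]) d hd
      refine ⟨z, d, hd0, hd, fun _ g hg => (h1 g hg).trans hz1, fun h => absurd hχ h, ?_⟩
      intro hne _
      rcases hz2 with h | h
      · exfalso
        apply hne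
        apply Subtype.ext
        refine ConstVal.eq_one_of_apply_eq χ.2 hx₀1 ?_
        rw [hz1, hd, h]
        simp
      · exact h
    · exact ⟨0, d, hd0, hd, fun h => absurd h hχ, fun _ => rfl, fun _ h => absurd h (lt_irrefl _)⟩
  choose a d hd0 hd1 ha1 ha2 ha3 using hex
  set i₁ : IrrCharacter G := ⟨1, isIrr_one⟩ with hi₁
  have hi₁B : i₁ ∈ principalBlock M G := Basic.mem_blockOf_self i₁
  have hax₀ : ∀ χ : IrrCharacter G, (a χ : ℂ) * (χ : G → ℂ) x₀ = (a χ : ℂ) ^ 2 := by
    intro χ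
    by_cases hχ : χ ∈ principalBlock M G
    · rw [ha1 χ hχ x₀ (by rw [hx₀]), pow_two]
    · rw [ha2 χ hχ]
      simp
  have hai₁ : a i₁ = 1 := by
    have h1 := ha1 i₁ hi₁B x₀ (by rw [hx₀])
    have h2 : ((i₁ : IrrCharacter G) : G → ℂ) x₀ = 1 := rfl
    rw [h2] at h1
    exact_mod_cast h1.symm
  have hdi₁ : d i₁ = 1 := by
    have h1 := hd1 i₁
    have h2 : ((i₁ : IrrCharacter G) : G → ℂ) 1 = 1 := rfl
    rw [h2] at h1
    exact_mod_cast h1.symm
  -- the indicator of the singular elements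
  set f : G → ℂ := fun g => if p ∣ orderOf g then (1 : ℂ) else 0 with hf
  have hfc : IsClassFunction G f := by
    intro g h
    have h1 : orderOf (h * g * h⁻¹) = orderOf g :=
      orderOf_injective (MulAut.conj h).toMonoidHom (MulAut.conj h).injective g
    simp only [hf, h1]
  set s : ℝ := ((Finset.univ.filter fun g : G => p ∣ orderOf g).card : ℝ) / (Nat.card G : ℝ) with hs
  have hcoef : ∀ χ : IrrCharacter G, classInner f (χ : G → ℂ) = (s : ℂ) * (a χ : ℂ) := by
    intro χ
    by_cases hχ : χ ∈ principalBlock M G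
    · rw [classInner_def]
      have h1 : ∑ g : G, f g * conj ((χ : G → ℂ) g) =
          ∑ g : G, if p ∣ orderOf g then (a χ : ℂ) else 0 := by
        refine Finset.sum_congr rfl fun g _ => ?_
        simp only [hf]
        split_ifs with h
        · rw [ha1 χ hχ g h]
          simp
        · simp
      rw [h1, ← Finset.sum_filter, Finset.sum_const, nsmul_eq_mul, hs]
      push_cast
      ring
    · rw [inner_eq_zero hM χ hχ, ha2 χ hχ]
      simp
  have hfsum : ∀ g : G, f g = (s : ℂ) * ∑ χ : IrrCharacter G, (a χ : ℂ) * (χ : G → ℂ) g := by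
    intro g
    have h1 := congrFun (classFunction_eq_sum hfc) g
    rw [h1, Finset.sum_apply, Finset.mul_sum]
    refine Finset.sum_congr rfl fun χ _ => ?_
    rw [Pi.smul_apply, hcoef, smul_eq_mul, mul_assoc]
  have hs1 : (1 : ℂ) = (s : ℂ) * ∑ χ : IrrCharacter G, (a χ : ℂ) ^ 2 := by
    have h1 := hfsum x₀
    have h2 : f x₀ = 1 := by simp [hf, hx₀]
    rw [h2] at h1
    rw [h1]
    congr 1
    exact Finset.sum_congr rfl fun χ _ => hax₀ χ
  have hs1' : (1 : ℝ) = s * ∑ χ : IrrCharacter G, (a χ : ℝ) ^ 2 := by exact_mod_cast hs1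
  have hs0 : (s : ℂ) ≠ 0 := by
    intro h
    rw [h, zero_mul] at hs1
    exact one_ne_zero hs1
  have horth : ∑ χ : IrrCharacter G, a χ * (d χ : ℤ) = 0 := by
    have h1 := hfsum 1
    have h2 : f 1 = 0 := by
      simp only [hf, orderOf_one]
      rw [if_neg]
      exact hp.out.not_dvd_one
    rw [h2] at h1
    have h3 := (mul_eq_zero.1 h1.symm).resolve_left hs0
    have h4 : ∑ χ : IrrCharacter G, (a χ : ℂ) * (d χ : ℂ) = 0 := by
      rw [← h3]
      exact Finset.sum_congr rfl fun χ _ => by rw [hd1 χ]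
    exact_mod_cast h4
  -- the sum of the squares
  have hsq : ∑ χ : IrrCharacter G, (a χ) ^ 2 ≤ (Nat.card P : ℤ) := by
    have h1 := (Cfsg.Agent.S0947.result p M hM x₀ ⟨1, by rw [hx₀, pow_one]⟩ hx₀1
      (1 : Subgroup.centralizer ({x₀} : Set G))
      (by rw [orderOf_one]; exact hp.out.not_dvd_one)).2 hb
    have h2 : ∑ᶠ ζ ∈ principalBlock M G,
        ‖(ζ : G → ℂ) (x₀ * ((1 : Subgroup.centralizer ({x₀} : Set G)) : G))‖ ^ 2 =
        ∑ χ : IrrCharacter G, (a χ : ℝ) ^ 2 := by
      rw [finsum_mem_def, finsum_eq_sum_of_fintype]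
      refine Finset.sum_congr rfl fun χ _ => ?_
      by_cases hχ : χ ∈ principalBlock M G
      · rw [Set.indicator_of_mem hχ, Subgroup.coe_one, mul_one, ha1 χ hχ x₀ (by rw [hx₀])]
        rw [← Complex.ofReal_intCast, Complex.norm_real, Real.norm_eq_abs, sq_abs]
      · rw [Set.indicator_of_notMem hχ, ha2 χ hχ]
        simp
    rw [h2] at h1
    have h3 : p ^ (Nat.card (Subgroup.centralizer ({x₀} : Set G))).factorization p ≤
        Nat.card P := by
      rw [P.card_eq_multiplicity]
      exact Nat.pow_le_pow_right hp.out.pos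
        ((Nat.factorization_le_iff_dvd Nat.card_pos.ne' Nat.card_pos.ne').2
          (Subgroup.card_subgroup_dvd_card _) p)
    have h4 : ∑ χ : IrrCharacter G, (a χ : ℝ) ^ 2 ≤ (Nat.card P : ℝ) := by
      rw [h1]
      exact_mod_cast h3
    exact_mod_cast h4
  obtain ⟨hlt, h2le⟩ := Arith.bound a d hd0 i₁ hai₁ hdi₁ (Nat.card P) hsq horth
    (fun χ hχ hpos => ha3 χ hχ hpos)
  -- counting
  set K := Finset.univ.filter (IsConj x₀) with hKdef
  have hKcard : K.card = (Subgroup.centralizer ({x₀} : Set G)).index := card_filter_isConj x₀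
  have hcount : ((K.filter fun w => p ∣ orderOf (w * x₀)).card : ℝ) =
      s * ((K.card : ℝ) * ∑ χ : IrrCharacter G, (a χ : ℝ) ^ 3 / (d χ : ℝ)) := by
    have h1 : ((K.filter fun w => p ∣ orderOf (w * x₀)).card : ℂ) =
        (s : ℂ) * ((K.card : ℂ) * ∑ χ : IrrCharacter G, (a χ : ℂ) ^ 3 / (d χ : ℂ)) := by
      have h2 : ((K.filter fun w => p ∣ orderOf (w * x₀)).card : ℂ) = ∑ w ∈ K, f (w * x₀) := by
        rw [Finset.card_filter]
        push_cast
        rfl
      have h2' : ∑ w ∈ K, f (w * x₀) =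
          ∑ w ∈ K, (s : ℂ) * ∑ χ : IrrCharacter G, (a χ : ℂ) * (χ : G → ℂ) (w * x₀) :=
        Finset.sum_congr rfl fun w _ => hfsum (w * x₀)
      rw [h2, h2', ← Finset.mul_sum, Finset.sum_comm]
      congr 1
      rw [Finset.mul_sum]
      refine Finset.sum_congr rfl fun χ _ => ?_
      rw [← Finset.mul_sum, hKdef, sum_class_char_mul χ.2 x₀ x₀, ← hKdef, ← hKcard, hd1 χ]
      have h3 := hax₀ χ
      have h4 : (a χ : ℂ) * ((K.card : ℂ) * (χ : G → ℂ) x₀ * (χ : G → ℂ) x₀ / (d χ : ℂ)) =
          (K.card : ℂ) * (((a χ : ℂ) * (χ : G → ℂ) x₀) * (χ : G → ℂ) x₀ / (d χ : ℂ)) := by ring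
      rw [h4, h3]
      have h5 : (a χ : ℂ) ^ 2 * (χ : G → ℂ) x₀ = (a χ : ℂ) ^ 3 := by
        rw [pow_two, mul_assoc, h3]
        ring
      rw [h5]
    exact_mod_cast h1
  have hKpos : 0 < K.card := by
    rw [hKcard]
    exact Nat.pos_of_ne_zero Subgroup.FiniteIndex.index_ne_zero
  -- the lower bound
  have hord : ∀ w, IsConj x₀ w → orderOf w = p := by
    intro w hw
    obtain ⟨c, hc⟩ := isConj_iff.1 hw
    rw [← hc, ← hx₀]
    exact orderOf_injective (MulAut.conj c).toMonoidHom (MulAut.conj c).injective x₀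
  have hlow : 2 * (K.filter fun w => ¬ p ∣ orderOf (w * x₀)).card ≤ K.card := by
    set A := K.filter fun w => ¬ p ∣ orderOf (w * x₀) with hA
    set A' := K.filter fun w => ¬ p ∣ orderOf (w⁻¹ * x₀) with hA'
    have hdisj : Disjoint A A' := by
      rw [Finset.disjoint_left]
      intro w hw hw'
      have h1 := Finset.mem_filter.1 hw
      have h2 := Finset.mem_filter.1 hw'
      rcases hloc w x₀ (hord w (Finset.mem_filter.1 h1.1).2) hx₀ with h | h
      · exact h1.2 h
      · exact h2.2 h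
    have hinv : ∀ w, w ∈ K → w⁻¹ ∈ K := by
      intro w hw
      have h1 := (Finset.mem_filter.1 hw).2
      refine Finset.mem_filter.2 ⟨Finset.mem_univ _, ?_⟩
      have h2 := hord w h1
      have h3 : w⁻¹ ≠ 1 := by
        intro h
        rw [inv_eq_one.1 h, orderOf_one] at h2
        exact hp.out.one_lt.ne h2
      exact (hK w⁻¹ h3 ⟨1, by rw [orderOf_inv, h2, pow_one]⟩).symm
    have hcard : A.card = A'.card := by
      refine Finset.card_bij (fun w _ => w⁻¹) ?_ ?_ ?_
      · intro w hw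
        have h1 := Finset.mem_filter.1 hw
        refine Finset.mem_filter.2 ⟨hinv w h1.1, ?_⟩
        rw [inv_inv]
        exact h1.2
      · intro x _ y _ hxy
        exact inv_injective hxy
      · intro w hw
        have h1 := Finset.mem_filter.1 hw
        exact ⟨w⁻¹, Finset.mem_filter.2 ⟨hinv w h1.1, h1.2⟩, inv_inv w⟩
    have hsub : A ∪ A' ⊆ K := Finset.union_subset (Finset.filter_subset _ _)
      (Finset.filter_subset _ _)
    have h1 := Finset.card_le_card hsub
    rw [Finset.card_union_of_disjoint hdisj, ← hcard] at h1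
    linarith
  have hsplit : (K.filter fun w => p ∣ orderOf (w * x₀)).card +
      (K.filter fun w => ¬ p ∣ orderOf (w * x₀)).card = K.card :=
    Finset.card_filter_add_card_filter_not _
  -- conclusion
  set n : ℝ := ∑ χ : IrrCharacter G, (a χ : ℝ) ^ 2 with hn
  have hn2 : (2 : ℝ) ≤ n := by
    rw [hn]
    exact_mod_cast h2le
  have hspos : 0 < s := by
    by_contra hcon
    push Not at hcon
    nlinarith
  have h1 : (K.card : ℝ) ≤ 2 * ((K.filter fun w => p ∣ orderOf (w * x₀)).card : ℝ) := by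
    have : K.card ≤ 2 * (K.filter fun w => p ∣ orderOf (w * x₀)).card := by omega
    exact_mod_cast this
  rw [hcount] at h1
  have hKpos' : (0 : ℝ) < K.card := by exact_mod_cast hKpos
  have h2 : (1 : ℝ) ≤ 2 * (s * ∑ χ : IrrCharacter G, (a χ : ℝ) ^ 3 / (d χ : ℝ)) := by
    have h3 : (K.card : ℝ) * 1 ≤
        (K.card : ℝ) * (2 * (s * ∑ χ : IrrCharacter G, (a χ : ℝ) ^ 3 / (d χ : ℝ))) := by
      calc (K.card : ℝ) * 1 = K.card := mul_one _
        _ ≤ _ := h1
        _ = _ := by ring
    exact le_of_mul_le_mul_left h3 hKpos'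
  have h3 : s * ∑ χ : IrrCharacter G, (a χ : ℝ) ^ 3 / (d χ : ℝ) < s * ((n + 1) / 3) :=
    mul_lt_mul_of_pos_left hlt hspos
  have h4 : s * 2 ≤ 1 := by
    rw [hs1']
    exact mul_le_mul_of_nonneg_left hn2 hspos.le
  nlinarith

end Cfsg.Agent.H30.OneClass
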