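import Cfsg.Agent.H30.FourTrans
import Cfsg.Agent.H672.SC
import Cfsg.Agent.H33.Crit
import Cfsg.Agent.H33.RD
import Cfsg.Agent.H424.DegTools
import Cfsg.Agent.H665.EvenDegree
import Cfsg.Agent.H713.Spor.FiTF
import Cfsg.Agent.H843.N29
import Cfsg.Agent.H843.One
import Cfsg.Agent.H898.FiveNorm

/-!
# The Itô-Michler row of `Fi₂₄'` (helper30)

* `im_fi24` : `IM p Fi₂₄'` for every prime divisor `p` of the order.
-/

set_option autoImplicit false
set_option maxRecDepth 10000

namespace Cfsg.Agent.H30.IMFi24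

open Cfsg Cfsg.Spor Cfsg.Agent.H33 Cfsg.Agent.R08 Cfsg.Agent.R08.FiTwentyFour
open Subgroup Cfsg.Agent.CTwoTab.FiTF
open Cfsg.Agent.H713.Spor.FiTF
open Cfsg.Agent.H30.FourTrans

universe u

local notation "L" => Cfsg.Agent.R08.FiTwentyFour.L

/-! ### Descent to a normal subgroup of index prime to `p` -/

theorem IM_of_le_index {G : Type u} [Group G] [Finite G] {p : ℕ} (hp : p.Prime) (N : Subgroup G) [N.Normal]
    (hN : ¬ p ∣ N.index) (h : IM p G) : IM p N := by
  obtain ⟨χ, hχ⟩ := h
  obtain ⟨c, ⟨θ, hθ⟩, ⟨k, hk⟩, h2⟩ := Cfsg.Agent.H424.DegTools.clifford_down N (d := charDegree (χ : G → ℂ)) ⟨χ, rfl⟩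
  refine ⟨θ, ?_⟩
  rw [hθ]
  have hpos : 0 < charDegree (χ : G → ℂ) := Cfsg.Agent.Blocks.Basic.charDegree_pos χ.2
  have hc : 0 < c := by
    rcases Nat.eq_zero_or_pos c with h | h
    · rw [h, zero_mul] at hk; omega
    · exact h
  rw [hk, Nat.mul_div_cancel_left _ hc] at h2
  rw [hk] at hχ
  exact (hp.dvd_mul.1 hχ).resolve_right fun h => hN (h.trans h2)

/-! ### The class of transpositions -/

theorem tr : Tr (L : Set Fi24) where
  sq _ ha := FiTwentyFour.sq ha
  conj _ ha g := FiTwentyFour.conj ha g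
  three _ ha _ hb := FiTwentyFour.three ha hb

/-- the index of the centralizer is the size of the class -/
theorem index_centralizer {G : Type*} [Group G] [Finite G] {x : G} {S : Set G}
    (hS : ∀ y, y ∈ S ↔ ∃ g, g * x * g⁻¹ = y) : (centralizer ({x} : Set G)).index = S.ncard := by
  have e : G ⧸ centralizer ({x} : Set G) ≃ S := by
    refine Equiv.ofBijective (Quotient.lift (fun g : G => (⟨g * x * g⁻¹, (hS _).2 ⟨g, rfl⟩⟩ : S)) ?_) ⟨?_, ?_⟩
    · intro a b hab
      have h2 : a⁻¹ * b ∈ centralizer ({x} : Set G) := QuotientGroup.leftRel_apply.1 hab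
      rw [mem_centralizer_singleton_iff] at h2
      apply Subtype.ext
      show a * x * a⁻¹ = b * x * b⁻¹
      calc a * x * a⁻¹ = a * (x * (a⁻¹ * b)) * b⁻¹ := by group
        _ = a * ((a⁻¹ * b) * x) * b⁻¹ := by rw [h2]
        _ = b * x * b⁻¹ := by group
    · intro a b
      refine Quotient.inductionOn₂ a b fun a b h => ?_
      apply Quotient.sound
      show QuotientGroup.leftRel (centralizer ({x} : Set G)) a b
      rw [QuotientGroup.leftRel_apply, mem_centralizer_singleton_iff]
      have h2 : a * x * a⁻¹ = b * x * b⁻¹ := congrArg Subtype.val h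
      calc a⁻¹ * b * x = a⁻¹ * (b * x * b⁻¹) * b := by group
        _ = a⁻¹ * (a * x * a⁻¹) * b := by rw [h2]
        _ = x * (a⁻¹ * b) := by group
    · rintro ⟨y, hy⟩
      obtain ⟨g, hg⟩ := (hS y).1 hy
      exact ⟨Quotient.mk _ g, Subtype.ext hg⟩
  rw [Subgroup.index, Nat.card_congr e, Set.ncard_def, Set.encard]
  rfl

/-- in `Fi24`: the primes 7 and 29 -/
theorem fi24_of_quotients {p : ℕ} [hp : Fact p.Prime] (hd : p ∣ 306936) (h5 : 5 ≤ p) : IM p Fi24 := by
  have : Finite Fi24 := finite_Fi24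
  obtain ⟨l, hl, hL⟩ := isThreeTranspositionClass.2.1
  have hidx : (centralizer ({l} : Set Fi24)).index = 306936 := by
    rw [← ncard_L]
    apply index_centralizer
    intro y
    rw [hL]
    exact isConj_iff
  refine IM.of_quotients (s := l) (by rw [hidx]; exact hd) ?_
  intro g h hg hh hk
  have hgL : g ∈ (L : Set Fi24) := by rw [hL]; exact hg
  have hhL : h ∈ (L : Set Fi24) := by rw [hL]; exact hh
  have h6 := tr.six hgL hhL
  have hi : h⁻¹ = h := tr.inv hhL
  obtain ⟨k, hk⟩ := hk
  rw [hi] at hk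
  have h7 : p ^ k ∣ 6 := by rw [← hk]; exact orderOf_dvd_of_pow_eq_one h6
  have h8 : k = 0 := by
    by_contra h8
    have h9 : p ∣ 6 := (dvd_pow_self p h8).trans h7
    have h10 := Nat.le_of_dvd (by norm_num) h9
    interval_cases p
    · omega
    · exact absurd hp.out (by norm_num)
  rw [h8, pow_zero, orderOf_eq_one_iff] at hk
  rw [eq_inv_of_mul_eq_one_left hk, hi]

/-! ### Elements of order 29 -/

theorem exists_x : ∃ x t : Spor.Fi24', orderOf x = 29 ∧ Nat.card (centralizer ({x} : Set Spor.Fi24')) = 29 ∧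
    t * t = 1 ∧ t ≠ 1 ∧ t * x * t⁻¹ = x⁻¹ := by
  have hfin : Finite Fi24 := finite_Fi24
  have hfin' : Finite Spor.Fi24' := finite'
  set X : Fi24 := Cfsg.Agent.H843.D29.D.x with hX
  set w : Fi24 := Cfsg.Agent.Fischer.Fi24Rep.word Cfsg.Agent.H843.D29.w12 with hw
  have ho : orderOf X = 29 := Cfsg.Agent.H843.D29.order
  have h29 : X ^ 29 = 1 := by rw [← ho]; exact pow_orderOf_eq_one X
  have hXw : w * X * w⁻¹ = X ^ 12 := Cfsg.Agent.H843.Fi24N.conj_of Cfsg.Agent.H843.D29.h12
  have hC : Nat.card (centralizer (zpowers X : Set Fi24)) = 29 := Cfsg.Agent.H843.D29.main.2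
  have hXK : X ∈ commutator Fi24 := Cfsg.Agent.H843.Fi24N.mem_commutator (by rw [ho]; decide)
  have hwK : w * w ∈ commutator Fi24 := by
    have h2 : w ^ (commutator Fi24).index ∈ commutator Fi24 := Subgroup.pow_index_mem _ _
    rwa [index_commutator, pow_two] at h2
  -- powers
  have hinv : (w * w) * X * (w * w)⁻¹ = X⁻¹ := by
    calc (w * w) * X * (w * w)⁻¹ = w * (w * X * w⁻¹) * w⁻¹ := by group
      _ = (w * X * w⁻¹) ^ 12 := by rw [conj_pow, hXw]
      _ = X ^ 144 := by rw [hXw, ← pow_mul]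
      _ = (X ^ 29) ^ 5 * X⁻¹ := by group
      _ = X⁻¹ := by rw [h29]; group
  -- `C(X) = ⟨X⟩`
  have hcent : centralizer (zpowers X : Set Fi24) = zpowers X := by
    symm
    apply eq_of_le_of_card_ge
    · rw [zpowers_le, mem_centralizer_iff]
      rintro _ ⟨k, rfl⟩
      exact ((Commute.refl X).zpow_left k).eq
    · rw [hC, Nat.card_zpowers, ho]
  have hc1 : ∀ y : Fi24, y * X = X * y → y ∈ zpowers X := by
    intro y hy
    rw [← hcent, mem_centralizer_iff]
    rintro _ ⟨k, rfl⟩
    exact ((show Commute X y from hy.symm).zpow_left k).eq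
  have h4 : w * w * (w * w) = 1 := by
    have h5 : w * w * (w * w) ∈ zpowers X := by
      apply hc1
      have h6 : (w * w) * ((w * w) * X * (w * w)⁻¹) * (w * w)⁻¹ = X := by
        rw [hinv]
        calc w * w * X⁻¹ * (w * w)⁻¹ = ((w * w) * X * (w * w)⁻¹)⁻¹ := (conj_inv).symm
          _ = X := by rw [hinv, inv_inv]
      calc w * w * (w * w) * X = ((w * w) * ((w * w) * X * (w * w)⁻¹) * (w * w)⁻¹) * (w * w * (w * w)) := by group
        _ = X * (w * w * (w * w)) := by rw [h6]
    obtain ⟨k, hk⟩ := mem_zpowers_iff.1 h5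
    have h7 : w * (X ^ k) * w⁻¹ = X ^ k := by rw [hk]; group
    rw [← conj_zpow, hXw] at h7
    have h8 : X ^ (11 * k) = 1 := by
      have h9 : X ^ (12 * k) = X ^ k := by
        conv_rhs => rw [← h7]
        rw [← zpow_natCast X 12, ← zpow_mul]
        rfl
      calc X ^ (11 * k) = X ^ (12 * k) * (X ^ k)⁻¹ := by rw [← zpow_neg, ← zpow_add]; congr 1; ring
        _ = 1 := by rw [h9, mul_inv_cancel]
    rw [← hk]
    have h10 : ((29 : ℕ) : ℤ) ∣ 11 * k := by
      rw [← ho]; exact orderOf_dvd_iff_zpow_eq_one.2 h8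
    have h11 : ((29 : ℕ) : ℤ) ∣ k := by
      have : IsCoprime ((29 : ℕ) : ℤ) 11 := by
        rw [Int.isCoprime_iff_gcd_eq_one]; norm_num
      exact this.dvd_of_dvd_mul_left h10
    rw [← ho] at h11
    exact orderOf_dvd_iff_zpow_eq_one.1 h11
  refine ⟨⟨X, hXK⟩, ⟨w * w, hwK⟩, ?_, ?_, Subtype.ext h4, ?_, Subtype.ext hinv⟩
  · rw [Subgroup.orderOf_mk, ho]
  · -- the centralizer in the commutator subgroup
    let f : ↥(centralizer ({(⟨X, hXK⟩ : Spor.Fi24')} : Set Spor.Fi24')) →*
        ↥(centralizer (zpowers X : Set Fi24)) :=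
      ((commutator Fi24).subtype.comp (centralizer ({(⟨X, hXK⟩ : Spor.Fi24')} : Set Spor.Fi24')).subtype).codRestrict _ (by
        intro y
        rw [hcent]
        apply hc1
        have h1 := mem_centralizer_singleton_iff.1 y.2
        exact congrArg Subtype.val h1)
    have hf : Function.Injective f := by
      intro y z h
      have h1 := (Subtype.mk.injEq _ _ _ _).mp h
      exact Subtype.ext (Subtype.ext h1)
    have h1 := Subgroup.card_dvd_of_injective f hf
    rw [hC] at h1
    rcases (Nat.dvd_prime (by norm_num : Nat.Prime 29)).1 h1 with h2 | h2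
    · exfalso
      have h3 : (⟨X, hXK⟩ : Spor.Fi24') ∈ centralizer ({(⟨X, hXK⟩ : Spor.Fi24')} : Set Spor.Fi24') := by
        rw [mem_centralizer_singleton_iff]
      have h4 : orderOf (⟨_, h3⟩ : ↥(centralizer ({(⟨X, hXK⟩ : Spor.Fi24')} : Set Spor.Fi24'))) ∣ 1 := by
        rw [← h2]; exact orderOf_dvd_natCard _
      rw [Subgroup.orderOf_mk, Subgroup.orderOf_mk, ho] at h4
      norm_num at h4
    · exact h2
  · intro h
    have h1 : w * w = 1 := congrArg Subtype.val h
    rw [h1, one_mul, inv_one, mul_one] at hinv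
    have h2 : X ^ 2 = 1 := by
      rw [pow_two]
      nth_rewrite 2 [hinv]
      exact mul_inv_cancel X
    have h3 := orderOf_dvd_of_pow_eq_one h2
    rw [ho] at h3
    norm_num at h3

/-- an involution inverting an element of order 29 is conjugate to `z0` -/
theorem conj_z0 {x t : Spor.Fi24'} (hx : orderOf x = 29) (ht : t * t = 1) (ht1 : t ≠ 1)
    (hinv : t * x * t⁻¹ = x⁻¹) : ∃ g : Spor.Fi24', t = g * z0 * g⁻¹ := by
  have ho : orderOf t = 2 := orderOf_eq_prime (by rw [pow_two, ht]) ht1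
  rcases classes t ho with ⟨a, b, P, hab⟩ | h
  · exfalso
    have h29 : x ^ 29 = 1 := by rw [← hx]; exact pow_orderOf_eq_one x
    -- `t * x = x⁻¹ * t = y * t * y⁻¹` with `y = x ^ 14`
    have hxt : x * t = x ^ 15 * t * (x ^ 15)⁻¹ :=
      Cfsg.Agent.H672.SC.mul_eq_conj (n := 29) hinv h29 (by decide)
    have h1 : ((x : Spor.Fi24') : Fi24) * (a * b) = ((x ^ 15 : Spor.Fi24') : Fi24) * (a * b) * ((x ^ 15 : Spor.Fi24') : Fi24)⁻¹ := by
      have h2 := congrArg Subtype.val hxt
      push_cast at h2 ⊢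
      rwa [hab] at h2
    set y : Fi24 := ((x ^ 15 : Spor.Fi24') : Fi24) with hy
    have cab : a * b = b * a := P.ab
    have aa : a * a = 1 := FiTwentyFour.sq P.ha
    have bb : b * b = 1 := FiTwentyFour.sq P.hb
    have h3 := tr.pow_sixty (FiTwentyFour.conj P.ha y) (FiTwentyFour.conj P.hb y) P.ha P.hb
      (by
        calc y * a * y⁻¹ * (y * b * y⁻¹) = y * (a * b) * y⁻¹ := by group
          _ = y * (b * a) * y⁻¹ := by rw [cab]
          _ = y * b * y⁻¹ * (y * a * y⁻¹) := by group) cab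
    have h4 : y * a * y⁻¹ * (y * b * y⁻¹) * (a * b) = ((x : Spor.Fi24') : Fi24) := by
      calc y * a * y⁻¹ * (y * b * y⁻¹) * (a * b) = (y * (a * b) * y⁻¹) * (a * b) := by group
        _ = ((x : Spor.Fi24') : Fi24) * (a * (b * a) * b) := by rw [← h1]; group
        _ = ((x : Spor.Fi24') : Fi24) * ((a * a) * (b * b)) := by rw [← cab]; group
        _ = _ := by rw [aa, bb, one_mul, mul_one]
    rw [h4] at h3
    have h5 : x ^ 60 = 1 := Subtype.ext (by push_cast; exact h3)
    have h6 := orderOf_dvd_of_pow_eq_one h5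
    rw [hx] at h6
    norm_num at h6
  · exact h

theorem card_F : Nat.card Spor.Fi24' = 1255205709190661721292800 := FiTwentyFour.card_commutator

/-- `p = 3, 11, 13, 17, 23` -/
theorem im_inv {p : ℕ} [hp : Fact p.Prime] (hp29 : p ≠ 29) {k : ℕ} (hk : p ^ k ∣ 1255205709190661721292800)
    (hn : ¬ p ^ k ∣ 321052999680 ^ 2) : IM p Spor.Fi24' := by
  have := finite'
  obtain ⟨x, t, hx, hC, ht, ht1, hinv⟩ := exists_x
  obtain ⟨g, hg⟩ := conj_z0 hx ht ht1 hinv
  refine Cfsg.Agent.H672.SC.IM.of_inverted ht hinv (by rw [hC]; decide) ?_ (k := k) (by rw [card_F]; exact hk) ?_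
  · rw [hC]
    intro h
    exact hp29 ((Nat.prime_dvd_prime_iff_eq hp.out (by norm_num)).1 h)
  · intro hd
    apply hn
    refine hd.trans (pow_dvd_pow_of_dvd ?_ 2)
    rw [hg, Cfsg.Agent.Blocks.SylowIn.card_centralizer_of_isConj (isConj_iff.2 ⟨g, rfl⟩ : IsConj z0 _)]
    rw [← Cfsg.Agent.KFacts.FiTF.Order.card]
    let f : ↥(centralizer ({z0} : Set Spor.Fi24')) →* ↥(centralizer ({KFacts.FiTF.Defs.z} : Set Spor.Fi24)) :=
      ((commutator Fi24).subtype.comp (centralizer ({z0} : Set Spor.Fi24')).subtype).codRestrict _ (by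
        intro x
        rw [mem_centralizer_singleton_iff]
        exact congrArg Subtype.val (mem_centralizer_singleton_iff.1 x.2))
    refine Subgroup.card_dvd_of_injective f ?_
    intro x y h
    have h1 := (Subtype.mk.injEq _ _ _ _).mp h
    exact Subtype.ext (Subtype.ext h1)

/-- `p = 2` -/
theorem im_two : IM 2 Spor.Fi24' := by
  have := finite'
  obtain ⟨x, t, hx, hC, ht, ht1, hinv⟩ := exists_x
  obtain ⟨χ, hχ⟩ := Cfsg.Agent.H665.EvenDegree.exists_even_degree (x := x)
    (by rintro rfl; rw [orderOf_one] at hx; omega) (isConj_iff.2 ⟨t, hinv⟩) (by rw [hC]; decide)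
  exact ⟨χ, hχ.two_dvd⟩

/-! ### The prime 5 -/

section Nine

open Equiv

theorem card_cent_rev : Nat.card (centralizer ({(Fin.revPerm : Perm (Fin 9))} : Set (Perm (Fin 9)))) = 384 := by
  have h2 : (Fin.revPerm : Perm (Fin 9)) ^ 2 = 1 := by decide
  have h1 : (Fin.revPerm : Perm (Fin 9)) ≠ 1 := by decide
  have ho : orderOf (Fin.revPerm : Perm (Fin 9)) = 2 := orderOf_eq_prime h2 h1
  obtain ⟨n, hn⟩ := Equiv.Perm.cycleType_prime_order (σ := (Fin.revPerm : Perm (Fin 9))) (by rw [ho]; norm_num)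
  have hs := Equiv.Perm.sum_cycleType (Fin.revPerm : Perm (Fin 9))
  have hc : (Fin.revPerm : Perm (Fin 9)).support.card = 8 := by decide
  rw [hn, hc, ho] at hs
  simp at hs
  have hn3 : n = 3 := by omega
  rw [ho, hn3] at hn
  rw [Equiv.Perm.nat_card_centralizer, hn]
  decide

theorem card_cent_rot : Nat.card (centralizer ({finRotate 9} : Set (Perm (Fin 9)))) = 9 := by
  have h : (finRotate 9).cycleType = {9} := cycleType_finRotate
  rw [Equiv.Perm.nat_card_centralizer, h]
  decide

theorem im5_S9 : IM 5 (Perm (Fin 9)) := by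
  have : Fact (Nat.Prime 5) := ⟨by norm_num⟩
  refine Cfsg.Agent.H672.SC.IM.of_inverted (t := Fin.revPerm) (g := finRotate 9) (by decide) (by decide)
    (by rw [card_cent_rot]; decide) (by rw [card_cent_rot]; decide) (k := 1) ?_ ?_
  · rw [Nat.card_perm, Nat.card_eq_fintype_card, Fintype.card_fin]
    decide
  · rw [card_cent_rev]
    norm_num

end Nine

/-- an element of `p`-power order normalising a subgroup of order `p` centralises it -/
theorem mem_centralizer_of_pow {G : Type*} [Group G] {p : ℕ} (hp : p.Prime) {D : Subgroup G} (hD : Nat.card D = p)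
    {g : G} (hg : g ∈ normalizer (D : Set G)) {k : ℕ} (hk : orderOf g = p ^ k) :
    g ∈ centralizer (D : Set G) := by
  have := Fact.mk hp
  have hfin : Finite D := Nat.finite_of_card_ne_zero (by rw [hD]; exact hp.ne_zero)
  have hcyc : IsCyclic D := isCyclic_of_prime_card hD
  have h1 : Nat.card (MulAut D) = p - 1 := by
    rw [IsCyclic.card_mulAut, hD, Nat.totient_prime hp]
  have hfin2 : Finite (MulAut D) := inferInstance
  set f := D.normalizerMonoidHom with hf
  set n : normalizer (D : Set G) := ⟨g, hg⟩ with hn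
  have h2 : orderOf (f n) ∣ p - 1 := by rw [← h1]; exact orderOf_dvd_natCard _
  have h3 : orderOf (f n) ∣ p ^ k := by
    refine (orderOf_map_dvd f n).trans ?_
    rw [hn, Subgroup.orderOf_mk, hk]
  have h4 : (p ^ k).Coprime (p - 1) := by
    apply Nat.Coprime.pow_left
    rw [Nat.Prime.coprime_iff_not_dvd hp]
    intro h
    have := Nat.le_of_dvd (by have := hp.two_le; omega) h
    have := hp.two_le
    omega
  have h5 : orderOf (f n) = 1 := Nat.dvd_one.1 (h4 ▸ Nat.dvd_gcd h3 h2)
  have h6 : n ∈ f.ker := by rw [MonoidHom.mem_ker]; exact orderOf_eq_one_iff.1 h5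
  rw [hf, Subgroup.normalizerMonoidHom_ker] at h6
  exact mem_subgroupOf.1 h6

section Five

open Cfsg.Agent.H841.Five Cfsg.Agent.LThreeFi24.FiveConj Cfsg.Agent.LThreeFi24.SNine

theorem im5_Fi24 : IM 5 Fi24 := by
  have hfin : Finite Fi24 := finite_Fi24
  have h5 : Nat.Prime 5 := by norm_num
  have : Fact (Nat.Prime 5) := ⟨h5⟩
  set D : Subgroup Fi24 := zpowers y0 with hD
  have hDc : Nat.card D = 5 := by rw [hD, Nat.card_zpowers, orderOf_y0]
  have hmem : ∀ n : Fi24, n ∈ centralizer (D : Set Fi24) ↔ n * y0 = y0 * n := by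
    intro n
    rw [hD, mem_centralizer_iff]
    constructor
    · intro h
      exact (h y0 (mem_zpowers y0)).symm
    · rintro h _ ⟨k, rfl⟩
      exact ((show Commute y0 n from h.symm).zpow_left k).eq
  have hPhi : Phi.range ≤ centralizer (D : Set Fi24) := by
    rintro _ ⟨σ, rfl⟩
    rw [hmem]
    exact (Phi_comm_y0 σ).eq
  set C := centralizer (D : Set Fi24) with hC
  set N : Subgroup C := Phi.range.subgroupOf C with hN
  have hNn : N.Normal := by
    constructor
    rintro n hn ⟨c, hc⟩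
    obtain ⟨i, σ, -, -, rfl⟩ := exists_of_comm ((hmem c).1 hc)
    obtain ⟨τ, hτ⟩ := mem_subgroupOf.1 hn
    rw [hN, mem_subgroupOf]
    refine ⟨σ * τ * σ⁻¹, ?_⟩
    push_cast
    rw [← hτ, map_mul, map_mul, map_inv]
    have h1 : Commute (y0 ^ i) (Phi σ * Phi τ * (Phi σ)⁻¹) := by
      have := comm_y0_pow_Phi i (σ * τ * σ⁻¹)
      rwa [map_mul, map_mul, map_inv] at this
    calc Phi σ * Phi τ * (Phi σ)⁻¹ = (y0 ^ i * (Phi σ * Phi τ * (Phi σ)⁻¹)) * (y0 ^ i)⁻¹ := by
          rw [h1.eq]; group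
      _ = y0 ^ i * Phi σ * Phi τ * (y0 ^ i * Phi σ)⁻¹ := by group
  have hIM : IM 5 C := by
    apply IM.of_normal N
    have e1 : N ≃* Phi.range := subgroupOfEquivOfLe hPhi
    have e2 : Equiv.Perm (Fin 9) ≃* Phi.range := MonoidHom.ofInjective Phi_injective
    exact im5_S9.of_equiv (e1.trans e2.symm)
  obtain ⟨θ, hθ⟩ := hIM
  have hfac : (Nat.card Fi24).factorization 5 = 2 := by
    have h1 : Nat.card Fi24 = 5 ^ 2 * 100416456735252937703424 := by
      have h2 := Subgroup.card_mul_index (commutator Fi24)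
      rw [index_commutator, card_commutator] at h2
      rw [← h2]
      norm_num
    rw [h1, Nat.factorization_mul (by norm_num) (by norm_num), Finsupp.add_apply, h5.factorization_pow,
      Finsupp.single_eq_same, Nat.factorization_eq_zero_of_not_dvd (by norm_num)]
  refine IM.of_local D (IsPGroup.of_card (n := 1) (by rw [hDc, pow_one])) ?_ θ ?_ ?_
  · have h1 := D.card_mul_index
    rw [← h1, Nat.factorization_mul Nat.card_pos.ne' index_ne_zero_of_finite, Finsupp.add_apply, hDc,
      Nat.Prime.factorization_self h5] at hfac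
    exact Nat.dvd_of_factorization_pos (by omega)
  · show (Nat.card C).factorization 5 ≤ (charDegree (θ : C → ℂ)).factorization 5 +
      (Nat.card ↥(D ⊓ C)).factorization 5
    have h1 : (Nat.card C).factorization 5 ≤ 2 := by
      rw [← hfac]
      exact (Nat.factorization_le_iff_dvd Nat.card_pos.ne' Nat.card_pos.ne').2 (card_subgroup_dvd_card C) 5
    have h2 : 1 ≤ (charDegree (θ : C → ℂ)).factorization 5 :=
      h5.factorization_pos_of_dvd (Cfsg.Agent.Blocks.Basic.charDegree_pos θ.2).ne' hθ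
    have h3 : D ⊓ C = D := by
      rw [inf_eq_left, hD, zpowers_le, hmem]
    rw [h3, hDc, Nat.Prime.factorization_self h5]
    omega
  · rintro g hg ⟨k, hk⟩
    exact (le_sup_right : C ≤ D ⊔ C) (mem_centralizer_of_pow h5 hDc hg hk)

end Five

/-- **The Itô-Michler row of `Fi₂₄'`.** -/
theorem im_fi24 {S : Type u} [Group S] (h : Spor.IsoFi24' S) {p : ℕ} [hp : Fact p.Prime]
    (hd : p ∣ Nat.card S) : IM p S := by
  obtain ⟨e⟩ := h
  refine IM.of_equiv e ?_
  rw [Nat.card_congr e.toEquiv, card_F] at hd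
  have hfin : Finite Fi24 := finite_Fi24
  have hfin' : Finite Spor.Fi24' := finite'
  have down : p ≠ 2 → IM p Fi24 → IM p Spor.Fi24' := by
    intro h2 h
    refine IM_of_le_index hp.out (commutator Fi24) ?_ h
    rw [index_commutator]
    intro h3
    exact h2 ((Nat.prime_dvd_prime_iff_eq hp.out Nat.prime_two).1 h3)
  have hcases : p = 2 ∨ p = 3 ∨ p = 5 ∨ p = 7 ∨ p = 11 ∨ p = 13 ∨ p = 17 ∨ p = 23 ∨ p = 29 := by
    have h1 : p ∣ 2 ^ 21 * 3 ^ 16 * 5 ^ 2 * 7 ^ 3 * 11 * 13 * 17 * 23 * 29 := by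
      rw [show 2 ^ 21 * 3 ^ 16 * 5 ^ 2 * 7 ^ 3 * 11 * 13 * 17 * 23 * 29 = 1255205709190661721292800 by norm_num]
      exact hd
    have key : ∀ q : ℕ, q.Prime → p ∣ q → p = q := fun q hq h => (Nat.prime_dvd_prime_iff_eq hp.out hq).1 h
    rcases hp.out.dvd_mul.1 h1 with h1 | h1
    swap
    · right; right; right; right; right; right; right; right; exact key 29 (by norm_num) h1
    rcases hp.out.dvd_mul.1 h1 with h1 | h1
    swap
    · right; right; right; right; right; right; right; left; exact key 23 (by norm_num) h1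
    rcases hp.out.dvd_mul.1 h1 with h1 | h1
    swap
    · right; right; right; right; right; right; left; exact key 17 (by norm_num) h1
    rcases hp.out.dvd_mul.1 h1 with h1 | h1
    swap
    · right; right; right; right; right; left; exact key 13 (by norm_num) h1
    rcases hp.out.dvd_mul.1 h1 with h1 | h1
    swap
    · right; right; right; right; left; exact key 11 (by norm_num) h1
    rcases hp.out.dvd_mul.1 h1 with h1 | h1
    swap
    · right; right; right; left; exact key 7 (by norm_num) (hp.out.dvd_of_dvd_pow h1)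
    rcases hp.out.dvd_mul.1 h1 with h1 | h1
    swap
    · right; right; left; exact key 5 (by norm_num) (hp.out.dvd_of_dvd_pow h1)
    rcases hp.out.dvd_mul.1 h1 with h1 | h1
    swap
    · right; left; exact key 3 (by norm_num) (hp.out.dvd_of_dvd_pow h1)
    · left; exact key 2 (by norm_num) (hp.out.dvd_of_dvd_pow h1)
  rcases hcases with rfl | rfl | rfl | rfl | rfl | rfl | rfl | rfl | rfl
  · exact im_two
  · exact im_inv (by norm_num) (k := 15) (by norm_num) (by norm_num)
  · exact down (by norm_num) im5_Fi24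
  · exact down (by norm_num) (fi24_of_quotients (by norm_num) (by norm_num))
  · exact im_inv (by norm_num) (k := 1) (by norm_num) (by norm_num)
  · exact im_inv (by norm_num) (k := 1) (by norm_num) (by norm_num)
  · exact im_inv (by norm_num) (k := 1) (by norm_num) (by norm_num)
  · exact im_inv (by norm_num) (k := 1) (by norm_num) (by norm_num)
  · exact down (by norm_num) (fi24_of_quotients (by norm_num) (by norm_num))

end Cfsg.Agent.H30.IMFi24
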