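import Cfsg.Agent.H30.IMFi24
import Cfsg.Agent.H690.Spor.RankThree
import Cfsg.Agent.LThreeFi24.Base24
import Cfsg.Agent.H678.DG.Basic
import Cfsg.Agent.H653.Sieve.Graph
import Cfsg.Agent.H653.Sieve.Col

/-!
# The degrees 57477 and 249458 of `Fi₂₄'` (helper30)

* `r3` : the rank 3 action of `Fi24'` on the 306936 transpositions of `Fi24`;
* `exists_deg` : the degrees 57477 and 249458;
* `conn_fi24`, `tri_fi24` : the degree graph of `Fi24'` is connected and has a triangle.
-/

set_option autoImplicit false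
set_option maxRecDepth 10000

namespace Cfsg.Agent.H30.GraphFi24

open Cfsg Cfsg.Agent.H33 Cfsg.Agent.R08 Cfsg.Agent.R08.FiTwentyFour Cfsg.Agent.H690.Spor.RankThree
open Cfsg.Spor (Fi24)
open Cfsg.Agent.Fischer.Fi24Rep (gen)

universe u

local notation "L" => Cfsg.Agent.R08.FiTwentyFour.L

/-- transitivity of `Fi24'` on the noncommuting pairs -/
theorem noncomm_trans {a b a' b' : Fi24} (ha : a ∈ L) (hb : b ∈ L) (ha' : a' ∈ L) (hb' : b' ∈ L) (hn : ¬ Commute a b)
    (hn' : ¬ Commute a' b') : ∃ g ∈ commutator Fi24, g * a * g⁻¹ = a' ∧ g * b * g⁻¹ = b' := by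
  obtain ⟨g, h1, h2⟩ := LThreeFi24.Base24.noncomm_trans ha hb ha' hb' hn hn'
  by_cases hg : g ∈ commutator Fi24
  · exact ⟨g, hg, h1, h2⟩
  · -- a transposition commuting with `a` and `b`
    have hlk : ¬ Commute (gen .l) (gen .k) := by
      intro h
      have h1 : Fischer.Fi24Rep.rho (gen .l) 307872 = 307872 :=
        ((KFacts.FiTF.FixMask.isPt_gen .k).comm_iff _).1 h
      have h2 : Lib.PermNetPt.chkPt (Fischer.Fi24RepDef.nw [.l] false) 307872 307840 = true := by decide +kernel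
      have h3 := KFacts.FiTF.Pts.rho_of_chkPt h2
      rw [LThreeFi24.Base24.word_one'] at h3
      rw [h1] at h3
      exact absurd h3 (by norm_num)
    obtain ⟨u, hu1, hu2⟩ := LThreeFi24.Base24.noncomm_trans (LThreeFi24.Base24.gen_mem .l) (LThreeFi24.Base24.gen_mem .k)
      ha hb hlk hn
    have hlb : gen .b * gen .l * (gen .b)⁻¹ = gen .l := by
      rw [Fischer.Fi24Final.gen_comm (x := .b) (y := .l) (by decide)]; group
    have hkb : gen .b * gen .k * (gen .b)⁻¹ = gen .k := by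
      rw [Fischer.Fi24Final.gen_comm (x := .b) (y := .k) (by decide)]; group
    set t := u * gen .b * u⁻¹ with ht
    have hta : t * a * t⁻¹ = a := by
      rw [ht, ← hu1]
      calc u * gen .b * u⁻¹ * (u * gen .l * u⁻¹) * (u * gen .b * u⁻¹)⁻¹ = u * (gen .b * gen .l * (gen .b)⁻¹) * u⁻¹ := by
            group
        _ = u * gen .l * u⁻¹ := by rw [hlb]
    have htb : t * b * t⁻¹ = b := by
      rw [ht, ← hu2]
      calc u * gen .b * u⁻¹ * (u * gen .k * u⁻¹) * (u * gen .b * u⁻¹)⁻¹ = u * (gen .b * gen .k * (gen .b)⁻¹) * u⁻¹ := by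
            group
        _ = u * gen .k * u⁻¹ := by rw [hkb]
    have htL : t ∈ L := FiTwentyFour.conj (LThreeFi24.Base24.gen_mem .b) u
    refine ⟨g * t, ?_, ?_, ?_⟩
    · rw [mem_commutator_iff] at hg ⊢
      have h3 := sgn_L htL
      rw [map_mul, h3]
      rcases Int.units_eq_one_or (Fischer.Fi24Final.sgn g) with h4 | h4
      · exact absurd h4 hg
      · rw [h4]; decide
    · calc g * t * a * (g * t)⁻¹ = g * (t * a * t⁻¹) * g⁻¹ := by group
        _ = a' := by rw [hta, h1]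
    · calc g * t * b * (g * t)⁻¹ = g * (t * b * t⁻¹) * g⁻¹ := by group
        _ = b' := by rw [htb, h2]

/-- the action on the transpositions -/
@[reducible] def act : MulAction Spor.Fi24' (L : Set Fi24) where
  smul g t := ⟨(g : Fi24) * t * (g : Fi24)⁻¹, FiTwentyFour.conj t.2 _⟩
  one_smul t := Subtype.ext (by
    show ((1 : Spor.Fi24') : Fi24) * t * ((1 : Spor.Fi24') : Fi24)⁻¹ = t
    push_cast
    group)
  mul_smul g h t := Subtype.ext (by
    show ((g * h : Spor.Fi24') : Fi24) * (t : Fi24) * ((g * h : Spor.Fi24') : Fi24)⁻¹ =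
      (g : Fi24) * ((h : Fi24) * t * (h : Fi24)⁻¹) * (g : Fi24)⁻¹
    push_cast
    group)

theorem r3 : @R3 Spor.Fi24' (L : Set Fi24) _ act (fun x y => (x : Fi24) ≠ y ∧ Commute (x : Fi24) y) 31671 275264 := by
  let _ := act
  have hfin : Finite Fi24 := finite_Fi24
  have hsm : ∀ (g : Spor.Fi24') (t : (L : Set Fi24)), ((g • t : (L : Set Fi24)) : Fi24) = g * t * (g : Fi24)⁻¹ :=
    fun g t => rfl
  have hcard : ∀ x : (L : Set Fi24), Nat.card {y : (L : Set Fi24) // (x : Fi24) ≠ y ∧ Commute (x : Fi24) y} = 31671 := by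
    intro x
    rw [← ncard_commuting x.2, ← Nat.card_coe_set_eq]
    exact Nat.card_congr ⟨fun y => ⟨y.1, y.1.2, fun h => y.2.1 h.symm, y.2.2.symm⟩,
      fun y => ⟨⟨y.1, y.2.1⟩, fun h => y.2.2.1 h.symm, y.2.2.2.symm⟩, fun y => rfl, fun y => rfl⟩
  have hex : ∀ x : (L : Set Fi24), ∃ y : (L : Set Fi24), (x : Fi24) ≠ y ∧ Commute (x : Fi24) y := by
    intro x
    have h1 := hcard x
    by_contra hcon
    have : IsEmpty {y : (L : Set Fi24) // (x : Fi24) ≠ y ∧ Commute (x : Fi24) y} := ⟨fun y => hcon ⟨y.1, y.2⟩⟩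
    rw [Nat.card_of_isEmpty] at h1
    norm_num at h1
  have conjc : ∀ (g x y : Fi24), Commute (g * x * g⁻¹) (g * y * g⁻¹) ↔ Commute x y := by
    intro g x y
    constructor
    · intro h
      have h1 := h.eq
      show x * y = y * x
      have h2 : g * (x * y) * g⁻¹ = g * (y * x) * g⁻¹ := by
        calc g * (x * y) * g⁻¹ = g * x * g⁻¹ * (g * y * g⁻¹) := by group
          _ = g * y * g⁻¹ * (g * x * g⁻¹) := h1
          _ = g * (y * x) * g⁻¹ := by group
      exact mul_left_cancel (mul_right_cancel h2)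
    · intro h
      show g * x * g⁻¹ * (g * y * g⁻¹) = g * y * g⁻¹ * (g * x * g⁻¹)
      calc g * x * g⁻¹ * (g * y * g⁻¹) = g * (x * y) * g⁻¹ := by group
        _ = g * (y * x) * g⁻¹ := by rw [h.eq]
        _ = g * y * g⁻¹ * (g * x * g⁻¹) := by group
  refine ⟨⟨fun x y => ?_⟩, ?_, ?_, ?_, ?_, ?_, hcard, by norm_num, by norm_num, ?_⟩
  · obtain ⟨c, h1, h2⟩ := hex x
    obtain ⟨c', h1', h2'⟩ := hex y
    obtain ⟨g, hg, h3, -⟩ := trans2 x.2 c.2 y.2 c'.2 h1 h2 h1' h2'
    exact ⟨⟨g, hg⟩, Subtype.ext h3⟩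
  · rintro x y ⟨h1, h2⟩
    exact ⟨h1.symm, h2.symm⟩
  · rintro x ⟨h1, -⟩
    exact h1 rfl
  · rintro g x y ⟨h1, h2⟩
    refine ⟨fun h => h1 ?_, ?_⟩
    · rw [hsm, hsm] at h
      exact mul_left_cancel (mul_right_cancel h)
    · rw [hsm, hsm]
      exact (conjc g x y).2 h2
  · rintro x y x' y' ⟨h1, h2⟩ ⟨h3, h4⟩
    obtain ⟨g, hg, hg1, hg2⟩ := trans2 x.2 y.2 x'.2 y'.2 h1 h2 h3 h4
    exact ⟨⟨g, hg⟩, Subtype.ext hg1, Subtype.ext hg2⟩
  · intro x y x' y' h1 h2 h3 h4
    have h5 : ¬ Commute (x : Fi24) y := fun h => h2 ⟨fun h' => h1 (Subtype.ext h'), h⟩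
    have h6 : ¬ Commute (x' : Fi24) y' := fun h => h4 ⟨fun h' => h3 (Subtype.ext h'), h⟩
    obtain ⟨g, hg, hg1, hg2⟩ := noncomm_trans x.2 y.2 x'.2 y'.2 h5 h6
    exact ⟨⟨g, hg⟩, Subtype.ext hg1, Subtype.ext hg2⟩
  · rw [Nat.card_coe_set_eq, ncard_L]

/-- the test for one `d` -/
def chk1 (wit : List (ℕ × ℕ)) (d : ℕ) : Bool :=
  Nat.beq d 0 || !(Nat.beq (Nat.mod 2675833101494784 (Nat.mul d d)) 0) || Nat.beq d 432 ||
    (Nat.ble (Nat.add (Nat.mul 306935 306935) 1) (Nat.mul 4 (Nat.div 2675833101494784 (Nat.mul d d))) ||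
      wit.any fun w => Nat.beq w.1 d &&
        Nat.ble (Nat.add (Nat.mul w.2 w.2) 1)
          (Nat.sub (Nat.mul 306935 306935) (Nat.mul 4 (Nat.div 2675833101494784 (Nat.mul d d)))) &&
        Nat.ble (Nat.add (Nat.sub (Nat.mul 306935 306935) (Nat.mul 4 (Nat.div 2675833101494784 (Nat.mul d d)))) 1)
          (Nat.mul (Nat.add w.2 1) (Nat.add w.2 1)))

/-- the squares dividing `n k l`, with the witnesses of nonsquareness of the discriminant -/
def chk (wit : List (ℕ × ℕ)) : Bool := (List.range 310).all fun a => (List.range 310).all fun b =>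
  chk1 wit (Nat.add (Nat.mul 310 a) b)

def wit : List (ℕ × ℕ) :=
  [(357, 101132), (368, 123180), (378, 138923), (391, 155557), (408, 172947), (414, 178216), (459, 208340),
   (476, 216724), (483, 219838), (504, 228194), (552, 243068), (612, 256187), (621, 257787), (644, 261536),
   (714, 270580), (756, 274739), (782, 276959), (816, 279525), (828, 280351), (918, 285496), (952, 287052),
   (966, 287643), (1008, 289266), (1071, 291338), (1104, 292279), (1173, 293989), (1224, 295067), (1242, 295415),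
   (1288, 296238), (1428, 298262), (1449, 298515), (1512, 299211), (1564, 299722), (1656, 300509), (1836, 301718),
   (1904, 302087), (1932, 302227), (2142, 303111), (2346, 303750), (2448, 304011), (2484, 304096), (2576, 304296),
   (2737, 304598), (2856, 304789), (2898, 304851), (3024, 305022), (3128, 305147), (3213, 305241), (3312, 305341),
   (3519, 305523), (3672, 305639), (3864, 305764), (4284, 305983), (4347, 306010), (4692, 306141), (4968, 306227),
   (5474, 306352), (5712, 306400), (5796, 306415), (6256, 306489), (6426, 306512), (7038, 306582), (7344, 306611),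
   (7728, 306642), (8211, 306676), (8568, 306697), (8694, 306704), (9384, 306736), (9936, 306758), (10557, 306778),
   (10948, 306789), (11592, 306805), (12852, 306829), (14076, 306846), (16422, 306870), (17136, 306875),
   (17388, 306877), (18768, 306885), (21114, 306895), (21896, 306898), (23184, 306902), (24633, 306906),
   (25704, 306908), (28152, 306912), (32844, 306918), (34776, 306920), (42228, 306925), (43792, 306925),
   (49266, 306927), (51408, 306928), (56304, 306929), (65688, 306930), (69552, 306931), (73899, 306931),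
   (84456, 306932)]

theorem chk_true : chk wit = true := by decide +kernel

theorem degrees {f g D : ℕ} (h1 : f + g = 31671 + 275264) (h2 : f * g * D = (1 + 31671 + 275264) * 31671 * 275264)
    (h3 : f ≠ g → IsSquare D) : (f = 57477 ∧ g = 249458) ∨ (f = 249458 ∧ g = 57477) := by
  have hne : f ≠ g := by
    rintro rfl
    omega
  obtain ⟨d, rfl⟩ := h3 hne
  norm_num at h1 h2
  have hf0 : 0 < f := Nat.pos_of_ne_zero (by rintro rfl; rw [zero_mul, zero_mul] at h2; norm_num at h2)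
  have hg0 : 0 < g := Nat.pos_of_ne_zero (by rintro rfl; rw [mul_zero, zero_mul] at h2; norm_num at h2)
  have hd0 : 0 < d := Nat.pos_of_ne_zero (by rintro rfl; norm_num at h2)
  have hfg : 306934 ≤ f * g := by
    rcases Nat.lt_or_ge f g with h | h
    · nlinarith
    · nlinarith
  have hd : d < 310 * 310 := by
    by_contra h
    push Not at h
    nlinarith
  have hc := chk_true
  unfold chk at hc
  rw [List.all_eq_true] at hc
  have hc1 := hc (d / 310) (List.mem_range.2 (by rw [Nat.div_lt_iff_lt_mul (by norm_num)]; exact hd))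
  rw [List.all_eq_true] at hc1
  have hc2 := hc1 (d % 310) (List.mem_range.2 (Nat.mod_lt _ (by norm_num)))
  have e1 : Nat.add (Nat.mul 310 (d / 310)) (d % 310) = d := Nat.div_add_mod d 310
  rw [e1] at hc2
  have hdvd : Nat.mod 2675833101494784 (Nat.mul d d) = 0 :=
    Nat.mod_eq_zero_of_dvd ⟨f * g, by rw [← h2]; show f * g * (d * d) = d * d * (f * g); ring⟩
  have hP : Nat.div 2675833101494784 (Nat.mul d d) = f * g := by
    apply Nat.div_eq_of_eq_mul_left (Nat.mul_pos hd0 hd0)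
    rw [← h2]
  unfold chk1 at hc2
  rw [hdvd, hP] at hc2
  simp only [Bool.or_eq_true, Nat.beq_eq, Bool.not_eq_true'] at hc2
  have hsq : (306935 : ℤ) * 306935 = ((f : ℤ) - g) * (f - g) + 4 * (f * g) := by
    have : (306935 : ℤ) = f + g := by exact_mod_cast h1.symm
    rw [this]; ring
  rcases hc2 with ((hc2 | hc2) | hc2) | hc2
  · omega
  · exact absurd hc2 (by decide)
  · -- `d = 432`
    subst hc2
    have h4 : f * g = 57477 * 249458 := by omega
    have h5 : ((f : ℤ) - 57477) * (f - 249458) = 0 := by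
      have e2 : (g : ℤ) = 306935 - f := by omega
      have e3 : (f : ℤ) * g = 57477 * 249458 := by exact_mod_cast h4
      rw [e2] at e3
      linear_combination -e3
    rcases mul_eq_zero.1 h5 with h6 | h6
    · left; omega
    · right; omega
  · exfalso
    rcases hc2 with hc2 | hc2
    · have h4 := Nat.le_of_ble_eq_true hc2
      have h5 : 306935 * 306935 + 1 ≤ 4 * (f * g) := h4
      have h6 : ((306935 * 306935 + 1 : ℕ) : ℤ) ≤ ((4 * (f * g) : ℕ) : ℤ) := by exact_mod_cast h5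
      push_cast at h6
      nlinarith [mul_self_nonneg ((f : ℤ) - g)]
    · rw [List.any_eq_true] at hc2
      obtain ⟨w, -, hw⟩ := hc2
      simp only [Bool.and_eq_true, Nat.beq_eq] at hw
      obtain ⟨⟨-, hw1⟩, hw2⟩ := hw
      have h4 : w.2 * w.2 + 1 ≤ 306935 * 306935 - 4 * (f * g) := Nat.le_of_ble_eq_true hw1
      have h5 : 306935 * 306935 - 4 * (f * g) + 1 ≤ (w.2 + 1) * (w.2 + 1) := Nat.le_of_ble_eq_true hw2
      have h7 : ((306935 * 306935 - 4 * (f * g) : ℕ) : ℤ) = ((f : ℤ) - g) * (f - g) := by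
        rw [Nat.cast_sub (by omega)]
        push_cast
        linear_combination hsq
      obtain ⟨m, hm⟩ : ∃ m : ℕ, ((f : ℤ) - g) * (f - g) = m * m :=
        ⟨((f : ℤ) - g).natAbs, by rw [Int.natAbs_mul_self' ((f : ℤ) - g)]⟩
      rw [hm] at h7
      have h8 : 306935 * 306935 - 4 * (f * g) = m * m := by exact_mod_cast h7
      rw [h8] at h4 h5
      have h9 : w.2 < m := by
        by_contra h11
        have := Nat.mul_le_mul (not_lt.1 h11) (not_lt.1 h11)
        omega
      have h10 : m < w.2 + 1 := by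
        by_contra h11
        have := Nat.mul_le_mul (not_lt.1 h11) (not_lt.1 h11)
        omega
      omega

theorem finite_Fi24' : Finite Spor.Fi24' := by
  have : Finite Fi24 := finite_Fi24
  exact Subtype.finite

theorem card_F : Nat.card Spor.Fi24' = 1255205709190661721292800 := FiTwentyFour.card_commutator

theorem not_comm : ¬ IsMulCommutative Spor.Fi24' := by
  intro hc
  obtain ⟨x, t, hx, -, -, -, hinv⟩ := Cfsg.Agent.H30.IMFi24.exists_x
  rw [hc.is_comm.comm t x, mul_inv_cancel_right] at hinv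
  have h2 : x ^ 2 = 1 := by
    rw [pow_two]
    nth_rewrite 2 [hinv]
    exact mul_inv_cancel x
  have h3 := orderOf_dvd_of_pow_eq_one h2
  rw [hx] at h3
  norm_num at h3

/-- the degrees modulo 29 -/
theorem deg_mod (χ : IrrCharacter Spor.Fi24') : charDegree (χ : Spor.Fi24' → ℂ) % 29 ∈ [0, 1, 28, 14, 15] := by
  classical
  have hfin : Finite Spor.Fi24' := finite_Fi24'
  have := Cfsg.Agent.Characters.Core.finite_irr (G := Spor.Fi24')
  have := Fintype.ofFinite (IrrCharacter Spor.Fi24')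
  have hp : Fact (Nat.Prime 29) := ⟨by norm_num⟩
  have hs : IsSimpleGroup Spor.Fi24' := FiTwentyFour.isFi24'.1
  obtain ⟨x, t, hx, hC, -, -, -⟩ := Cfsg.Agent.H30.IMFi24.exists_x
  obtain ⟨P, W, -, -, -, hW⟩ := Cfsg.Agent.H653.Sieve.exists_col (G := Spor.Fi24') not_comm (p := 29)
    (N := 1255205709190661721292800) card_F hx (k := 1) (by rw [hC]) 14 2
    [(0, 0), (1, 2), (28, -2), (14, -1), (15, 1)] 0 false (by decide +kernel)
  have h1 := hW.1 χ
  simp only [List.mem_cons, Prod.mk.injEq, List.not_mem_nil, or_false] at h1 ⊢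
  have h2 : Cfsg.Agent.H653.Sieve.deg χ = charDegree (χ : Spor.Fi24' → ℂ) := rfl
  rw [h2] at h1
  rcases h1 with h | h | h | h | h <;> omega

/-- the degrees of the rank 3 permutation character -/
theorem exists_deg : (∃ χ : IrrCharacter Spor.Fi24', charDegree (χ : Spor.Fi24' → ℂ) = 57477) ∧
    ∃ χ : IrrCharacter Spor.Fi24', charDegree (χ : Spor.Fi24' → ℂ) = 249458 := by
  classical
  let _ := act
  have hfin : Finite Spor.Fi24' := finite_Fi24'
  have h := r3
  have hX : Finite (L : Set Fi24) := by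
    have : Finite Fi24 := finite_Fi24
    exact Subtype.finite
  have := Fintype.ofFinite (L : Set Fi24)
  obtain ⟨χ₁, χ₂, f, g, D, h1, h2, -, h3, h4, h5⟩ := h.frame
  have e1 : charDegree (χ₁ : Spor.Fi24' → ℂ) = f := by
    have := Cfsg.Agent.Blocks.Knorr.charDegree_eq χ₁.2
    rw [h1] at this
    exact_mod_cast this.symm
  have e2 : charDegree (χ₂ : Spor.Fi24' → ℂ) = g := by
    have := Cfsg.Agent.Blocks.Knorr.charDegree_eq χ₂.2
    rw [h2] at this
    exact_mod_cast this.symm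
  rcases degrees h3 h4 h5 with ⟨rfl, rfl⟩ | ⟨rfl, rfl⟩
  · exact ⟨⟨χ₁, e1⟩, ⟨χ₂, e2⟩⟩
  · exact ⟨⟨χ₂, e2⟩, ⟨χ₁, e1⟩⟩

/-- a degree which is not divisible by the other primes -/
theorem coprime_elim {d : ℕ} (hd : d ∣ 1255205709190661721292800) (hm : d % 29 ∈ [0, 1, 28, 14, 15]) (h1 : d ≠ 1)
    (h : ∀ q ∈ [2, 3, 7, 11, 17, 23, 29], ¬ q ∣ d) : False := by
  have hpr : ∀ q ∈ [2, 3, 7, 11, 17, 23, 29], Nat.Prime q := by
    intro q hq
    simp only [List.mem_cons, List.not_mem_nil, or_false] at hq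
    rcases hq with rfl | rfl | rfl | rfl | rfl | rfl | rfl <;> norm_num
  have hc : ∀ q ∈ [2, 3, 7, 11, 17, 23, 29], ∀ n : ℕ, Nat.Coprime d (q ^ n) := fun q hq n =>
    Nat.Coprime.pow_right n ((Nat.Prime.coprime_iff_not_dvd (hpr q hq)).2 (h q hq)).symm
  have h2 : d ∣ 5 ^ 2 * 13 := by
    have e : 1255205709190661721292800 = (5 ^ 2 * 13) * (2 ^ 21 * 3 ^ 16 * 7 ^ 3 * 11 ^ 1 * 17 ^ 1 * 23 ^ 1 * 29 ^ 1) := by
      norm_num
    rw [e] at hd
    refine Nat.Coprime.dvd_of_dvd_mul_right ?_ hd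
    simp only [Nat.coprime_mul_iff_right]
    exact ⟨⟨⟨⟨⟨⟨hc 2 (by simp) 21, hc 3 (by simp) 16⟩, hc 7 (by simp) 3⟩, hc 11 (by simp) 1⟩, hc 17 (by simp) 1⟩,
      hc 23 (by simp) 1⟩, hc 29 (by simp) 1⟩
  have h3 : d ∈ (5 ^ 2 * 13).divisors := Nat.mem_divisors.2 ⟨h2, by norm_num⟩
  have h4 : (5 ^ 2 * 13).divisors = {1, 5, 13, 25, 65, 325} := by decide +kernel
  rw [h4] at h3
  simp only [Finset.mem_insert, Finset.mem_singleton] at h3
  rcases h3 with rfl | rfl | rfl | rfl | rfl | rfl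
  · exact h1 rfl
  all_goals revert hm; decide

theorem clause {p : ℕ} (hp : p.Prime) (hd : p ∣ Nat.card Spor.Fi24') (hn : p ∉ [2, 3, 7, 11, 17, 23, 29]) :
    H653.Graph.Cl Spor.Fi24' [2 * p, 3 * p, 7 * p, 11 * p, 17 * p, 23 * p, 29 * p] := by
  have hfin : Finite Spor.Fi24' := finite_Fi24'
  have := Fact.mk hp
  obtain ⟨χ, hχ⟩ := IMFi24.im_fi24 (S := Spor.Fi24') ⟨MulEquiv.refl _⟩ hd
  have h1 : charDegree (χ : Spor.Fi24' → ℂ) ≠ 1 := by
    intro h
    rw [h, Nat.dvd_one] at hχ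
    exact hp.one_lt.ne' hχ
  have h2 : charDegree (χ : Spor.Fi24' → ℂ) ∣ 1255205709190661721292800 := by
    rw [← card_F]
    exact Blocks.Knorr.charDegree_dvd χ.2
  by_contra hcon
  refine coprime_elim h2 (deg_mod χ) h1 fun q hq hqd => hcon ⟨q * p, ?_, χ, ?_⟩
  · simp only [List.mem_cons, List.not_mem_nil, or_false] at hq ⊢
    rcases hq with rfl | rfl | rfl | rfl | rfl | rfl | rfl <;> simp
  · refine Nat.Coprime.mul_dvd_of_dvd_of_dvd ?_ hqd hχ
    have hq' : q.Prime := by
      simp only [List.mem_cons, List.not_mem_nil, or_false] at hq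
      rcases hq with rfl | rfl | rfl | rfl | rfl | rfl | rfl <;> norm_num
    rw [Nat.coprime_primes hq' hp]
    rintro rfl
    exact hn hq

theorem mem_primes {p : ℕ} (hp : p.Prime) (hd : p ∣ Nat.card Spor.Fi24') : p ∈ [2, 3, 5, 7, 11, 13, 17, 23, 29] := by
  rw [card_F, show 1255205709190661721292800 = 2 ^ 21 * 3 ^ 16 * 5 ^ 2 * 7 ^ 3 * 11 ^ 1 * 13 ^ 1 * 17 ^ 1 * 23 ^ 1 * 29 ^ 1
    by norm_num] at hd
  simp only [hp.dvd_mul] at hd
  have h2 : ∀ q n : ℕ, q.Prime → p ∣ q ^ n → p = q := fun q n hq h => (Nat.prime_dvd_prime_iff_eq hp hq).1 (hp.dvd_of_dvd_pow h)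
  simp only [List.mem_cons, List.not_mem_nil, or_false]
  rcases hd with (((((((hd | hd) | hd) | hd) | hd) | hd) | hd) | hd) | hd
  · have := h2 2 _ (by norm_num) hd; omega
  · have := h2 3 _ (by norm_num) hd; omega
  · have := h2 5 _ (by norm_num) hd; omega
  · have := h2 7 _ (by norm_num) hd; omega
  · have := h2 11 _ (by norm_num) hd; omega
  · have := h2 13 _ (by norm_num) hd; omega
  · have := h2 17 _ (by norm_num) hd; omega
  · have := h2 23 _ (by norm_num) hd; omega
  · have := h2 29 _ (by norm_num) hd; omega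

/-- the clauses -/
def E0 : List (List ℕ) := [[57477], [249458], [2 * 5, 3 * 5, 7 * 5, 11 * 5, 17 * 5, 23 * 5, 29 * 5],
  [2 * 13, 3 * 13, 7 * 13, 11 * 13, 17 * 13, 23 * 13, 29 * 13]]

theorem cl_E0 : ∀ c ∈ E0, H653.Graph.Cl Spor.Fi24' c := by
  intro c hc
  unfold E0 at hc
  simp only [List.mem_cons, List.not_mem_nil, or_false] at hc
  rcases hc with rfl | rfl | rfl | rfl
  · exact H653.Graph.Cl.of_deg exists_deg.1
  · exact H653.Graph.Cl.of_deg exists_deg.2
  · exact clause (p := 5) (by norm_num) (by rw [card_F]; norm_num) (by decide)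
  · exact clause (p := 13) (by norm_num) (by rw [card_F]; norm_num) (by decide)

theorem primes_P : ∀ p ∈ [2, 3, 5, 7, 11, 13, 17, 23, 29], Nat.Prime p := by
  intro q hq
  simp only [List.mem_cons, List.not_mem_nil, or_false] at hq
  rcases hq with rfl | rfl | rfl | rfl | rfl | rfl | rfl | rfl | rfl <;> norm_num

theorem mem_deg (p : ℕ) : p ∈ degreePrimes Spor.Fi24' ↔ p ∈ [2, 3, 5, 7, 11, 13, 17, 23, 29] := by
  have hfin : Finite Spor.Fi24' := finite_Fi24'
  exact H653.Graph.mem_of_chk primes_P (fun _ hp hd => mem_primes hp hd) cl_E0 (by decide) p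

/-- **The degree graph of `Fi₂₄'` is connected.** -/
theorem conn : ((degreeGraph Spor.Fi24').induce (degreePrimes Spor.Fi24')).Connected :=
  H653.Graph.conn_of_chkCut primes_P cl_E0 (by decide +kernel) mem_deg (by decide)

open Cfsg.Agent.H671.H5 in
/-- **The degree graph of `Fi₂₄'` has a triangle.** -/
theorem tri : ∃ p q r : ℕ, Adj p q Spor.Fi24' ∧ Adj q r Spor.Fi24' ∧ Adj p r Spor.Fi24' :=
  H653.Graph.tri_of_chk primes_P cl_E0 (by decide)

section transport

variable {S : Type u} [Group S]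

theorem conn_fi24 (h : Spor.IsoFi24' S) : ((degreeGraph S).induce (degreePrimes S)).Connected := by
  obtain ⟨e⟩ := h
  rw [H424.DegTools.degreeGraph_congr e, H424.DegTools.degreePrimes_congr e]
  exact conn

open Cfsg.Agent.H671.H5 in
theorem tri_fi24 (h : Spor.IsoFi24' S) : ∃ p q r : ℕ, Adj p q S ∧ Adj q r S ∧ Adj p r S := by
  obtain ⟨e⟩ := h
  have h1 := tri
  unfold Adj at *
  rw [H424.DegTools.degreeGraph_congr e]
  exact h1

end transport

end Cfsg.Agent.H30.GraphFi24
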