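import Cfsg.Agent.H139.RealB0.Crit
import Cfsg.Agent.H706.RealBasic
import Cfsg.Agent.H661.SporFi22
import Cfsg.Agent.H661.SporCount
import Cfsg.Agent.H713.Spor.Fi22
import Cfsg.Agent.H713.Spor.Fi23
import Cfsg.Agent.H843.N11
import Cfsg.Agent.H30.IMFi24
import Cfsg.Agent.H836.Cent
import Cfsg.Agent.H843.N17
import Cfsg.Agent.H702.RealTable

/-!
# REALB0: the rows `Fi₂₂`, `Fi₂₃`, `Fi₂₄'` (helper30)
-/

set_option autoImplicit false
set_option maxRecDepth 10000

namespace Cfsg.Agent.H30.RealFi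

open Subgroup
open Cfsg.Agent.H722.RealP (HasReal)
open Cfsg.Agent.H661.Spor

/-- T1 from a real element of order `p`. -/
theorem t1 {p : ℕ} [Fact p.Prime] {G : Type*} [Group G] [Finite G] (h : HasReal p G) :
    Cfsg.Agent.H702.RealB0.HasReal p G := by
  obtain ⟨x, hx, hr⟩ := h.isConj
  exact Cfsg.Agent.H706.RealB.hasReal_of_isConj_inv (dvd_of_eq hx.symm) hr

/-! ### Real elements of order 3 and 5 from a diagram -/

namespace CoxFive

open Equiv Cfsg.Agent.H346.CoxA Cfsg.Agent.H661.Spor.CoxSeven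

/-- the 5-cycle -/
def x5 : Perm (Fin 5) := finRotate 5
/-- an involution inverting it -/
def t5 : Perm (Fin 5) := swap 1 4 * swap 2 3

theorem x5_pow : x5 ^ 5 = 1 := by decide +kernel
theorem t5_sq : t5 * t5 = 1 := by decide +kernel
theorem conj5 : t5 * x5 * t5⁻¹ = x5⁻¹ := by decide +kernel

theorem prod5 : ∃ g : Perm (Fin 5), swap (1 : Fin 5) 2 * swap 0 1 = x5 * (g * x5 * g⁻¹) := by decide +kernel

/-- Four elements with the Coxeter relations of type `A₄`, the first two not equal. -/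
theorem hasReal {G : Type*} [Group G] {s : ℕ → G} (h : Rel 4 s) (hne : s 1 * s 0 ≠ 1) : HasReal 5 G := by
  have : Fact (Nat.Prime 5) := ⟨by norm_num⟩
  obtain ⟨f, hf⟩ := exists_hom 4 s h
  have h0 : f (swap 0 1) = s 0 := hf 0
  have h1 : f (swap 1 2) = s 1 := hf 1
  have hx : f x5 ≠ 1 := by
    intro hx
    apply hne
    obtain ⟨g, e⟩ := prod5
    rw [← h0, ← h1, ← map_mul, e, map_mul, map_mul, map_mul, hx, map_inv]
    group
  refine ⟨f x5, f t5, orderOf_eq_prime (by rw [← map_pow, x5_pow, map_one]) hx, ?_, ?_⟩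
  · have : orderOf (f t5) ∣ 2 ^ 1 :=
      orderOf_dvd_of_pow_eq_one (by rw [pow_one, pow_two, ← map_mul, t5_sq, map_one])
    obtain ⟨i, -, hi⟩ := (Nat.dvd_prime_pow Nat.prime_two).1 this
    exact ⟨i, hi⟩
  · rw [← map_inv, ← map_inv, ← map_mul, ← map_mul, conj5]

end CoxFive

namespace Fi22

open Cfsg.Spor Cfsg.Spor.Fi22 Cfsg.Agent.Fischer.Fi22PtsRep Cfsg.Agent.Fischer.Fi22Order
open Cfsg.Agent.H661.Spor.Fi22

theorem ba_ne : gen .b * gen .a ≠ 1 := by
  intro h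
  apply ab_ne
  have h1 : gen .b = (gen .a)⁻¹ := eq_inv_of_mul_eq_one_left h
  rw [h1, mul_inv_cancel, inv_mul_cancel]

theorem real3 : HasReal 3 Cfsg.Spor.Fi22 := by
  refine HasReal_of_dihedral (by norm_num) (s := gen .b) (t := gen .a) (gen_sq _) (gen_sq _) ?_ ba_ne
  have h1 := rel.braid 0 (by norm_num)
  have h2 : gen .a * gen .b * gen .a = gen .b * gen .a * gen .b := h1
  have ha : gen .a * gen .a = 1 := gen_sq _
  have hb : gen .b * gen .b = 1 := gen_sq _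
  calc (gen .b * gen .a) ^ 3 = (gen .b * gen .a * gen .b) * (gen .a * gen .b * gen .a) := by
        rw [pow_succ, pow_two]; group
    _ = (gen .b * gen .a * gen .b) * (gen .b * gen .a * gen .b) := by rw [h2]
    _ = gen .b * (gen .a * (gen .b * gen .b) * gen .a) * gen .b := by group
    _ = 1 := by rw [hb, mul_one, ha, mul_one, hb]

theorem real5 : HasReal 5 Cfsg.Spor.Fi22 := by
  refine CoxFive.hasReal (s := fun i => gen (nd i)) ?_ ba_ne
  exact
    { sq := fun i _ => gen_sq _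
      braid := fun i hi => gen_braid (lab3 ⟨i, by omega⟩)
      comm := fun i j hij hj => gen_comm (lab2 ⟨i, by omega⟩ ⟨j, by omega⟩ hij) }

theorem real7 : HasReal 7 Cfsg.Spor.Fi22 := Cfsg.Agent.H661.Spor.Fi22.hasReal

theorem finite_fi22 : Finite Cfsg.Spor.Fi22 := by
  have := Cfsg.Agent.H713.Spor.Fi22.card_fi22 (MulEquiv.refl Cfsg.Spor.Fi22)
  exact Nat.finite_of_card_ne_zero (by rw [this]; norm_num)

theorem card : Nat.card Cfsg.Spor.Fi22 = 64561751654400 :=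
  Cfsg.Agent.H713.Spor.Fi22.card_fi22 (MulEquiv.refl Cfsg.Spor.Fi22)

theorem real13 : HasReal 13 Cfsg.Spor.Fi22 := by
  have := finite_fi22
  have hp : Fact (Nat.Prime 13) := ⟨by norm_num⟩
  refine hasReal_count (by norm_num) (by rw [card]; norm_num) (by rw [card]; norm_num) ?_
  intro P c e n hP hC he he1 hn h
  obtain ⟨x, hx⟩ := exists_prime_orderOf_dvd_card' (G := P) 13 (by rw [hP])
  have hx' : orderOf (x : Cfsg.Spor.Fi22) = 13 := by rw [Subgroup.orderOf_coe, hx]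
  have h1 := Cfsg.Agent.H713.Spor.Fi22.cent_13 (MulEquiv.refl Cfsg.Spor.Fi22) hx'
  have h2 : (P : Subgroup Cfsg.Spor.Fi22) = zpowers (x : Cfsg.Spor.Fi22) := by
    symm
    apply Subgroup.eq_of_le_of_card_ge
    · rw [zpowers_le]; exact x.2
    · rw [Nat.card_zpowers, hx', hP]
  rw [h2, Cfsg.Agent.H843.Cyc.centralizer_zpowers, h1] at hC
  have hc : c = 1 := by omega
  subst hc
  rw [card] at h
  have he2 : e ≤ 12 := Nat.le_of_dvd (by norm_num) he1
  unfold Nat.ModEq at hn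
  interval_cases e <;> first | omega | (revert he; decide)

/-- the class of transpositions -/
local notation "T" => Cfsg.Agent.KFacts.FiTT.TK (MulEquiv.refl Cfsg.Spor.Fi22)

/-- An element `y` of order 7 and a transposition `d` commuting with it: `|C(y d)| = 14`, `y d` is real. -/
theorem exists_pair : ∃ y d : Cfsg.Spor.Fi22, orderOf y = 7 ∧ orderOf d = 2 ∧ y * d = d * y ∧
    Nat.card (centralizer ({y * d} : Set Cfsg.Spor.Fi22)) = 14 ∧ IsConj (y * d) (y * d)⁻¹ ∧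
    ∀ y' : Cfsg.Spor.Fi22, orderOf y' = 11 → ∃ c : Cfsg.Spor.Fi22, c * d * c⁻¹ * y' = y' * (c * d * c⁻¹) := by
  have hfin := finite_fi22
  have I := Cfsg.Agent.H836.inv_of_iso (MulEquiv.refl Cfsg.Spor.Fi22)
  have C := I.ctx
  obtain ⟨y, t, hy, -, hyt⟩ := real7
  have hy7 : y ^ 7 = 1 := by rw [← hy, pow_orderOf_eq_one]
  have hy1 : y ≠ 1 := by
    rintro rfl
    rw [orderOf_one] at hy
    norm_num at hy
  have h3 := C.seven_card hy7 hy1
  obtain ⟨d, hd⟩ := C.exists_mem (y := y) (by rw [h3]; norm_num)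
  have hyd : y * d = d * y := hd.2
  have dd : d * d = 1 := C.sq d hd.1
  have hd2 : orderOf d = 2 := orderOf_eq_prime (by rw [pow_two]; exact dd) (C.ne1 d hd.1)
  -- a conjugate of `t`
  have hty : t⁻¹ * y * t = y⁻¹ := by
    have h1 : y = t⁻¹ * (y⁻¹) * t := by rw [← hyt]; group
    calc t⁻¹ * y * t = (t⁻¹ * y⁻¹ * t)⁻¹ := by group
      _ = y⁻¹ := by rw [← h1]
  have hd'm : t * d * t⁻¹ ∈ Cfsg.Agent.LThreeFi22.Fx T y := by
    refine ⟨C.conj d hd.1 t, ?_⟩
    calc y * (t * d * t⁻¹) = t * ((t⁻¹ * y * t) * d) * t⁻¹ := by group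
      _ = t * (y⁻¹ * d) * t⁻¹ := by rw [hty]
      _ = t * (d * y⁻¹) * t⁻¹ := by
        rw [show y⁻¹ * d = d * y⁻¹ from ((show Commute y d from hyd).inv_left).eq]
      _ = t * (d * (t⁻¹ * y * t)) * t⁻¹ := by rw [hty]
      _ = t * d * t⁻¹ * y := by group
  obtain ⟨s, hs1, hs2⟩ : ∃ s : Cfsg.Spor.Fi22, s * y = y * s ∧ s * (t * d * t⁻¹) * s⁻¹ = d := by
    set f := t * d * t⁻¹ with hf
    by_cases hfd : f = d
    · exact ⟨1, by rw [one_mul, mul_one], by rw [hfd]; group⟩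
    · have hnc : f * d ≠ d * f := fun h => hfd (C.seven_comm hy7 hy1 hd'm hd h).symm
      have hbr := (C.three f hd'm.1 d hd.1).resolve_left hnc
      have ff := C.sq f hd'm.1
      refine ⟨f * d, ?_, ?_⟩
      · have h1 := hd'm.2
        exact ((show Commute y f from h1).mul_right (show Commute y d from hyd)).symm.eq
      · have fi : f⁻¹ = f := inv_eq_of_mul_eq_one_left ff
        have di : d⁻¹ = d := inv_eq_of_mul_eq_one_left dd
        rw [mul_inv_rev, fi, di]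
        calc f * d * f * (d * f) = (f * d * f) * (d * f) := by group
          _ = (d * f * d) * (d * f) := by rw [hbr]
          _ = d * (f * (d * d) * f) := by group
          _ = d := by rw [dd, mul_one, ff, mul_one]
  have hconj : s * t * (y * d) * (s * t)⁻¹ = (y * d)⁻¹ := by
    calc s * t * (y * d) * (s * t)⁻¹ = s * (t * y * t⁻¹) * s⁻¹ * (s * (t * d * t⁻¹) * s⁻¹) := by group
      _ = s * y⁻¹ * s⁻¹ * d := by rw [hyt, hs2]
      _ = y⁻¹ * d := by
        rw [show s * y⁻¹ = y⁻¹ * s from ((show Commute s y from hs1).inv_right).eq]; group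
      _ = (y * d)⁻¹ := by
        rw [hyd, mul_inv_rev, inv_eq_of_mul_eq_one_left dd]
  refine ⟨y, d, hy, hd2, hyd, ?_, isConj_iff.2 ⟨s * t, hconj⟩, ?_⟩
  · have h1 := I.card_inf (Or.inl rfl) hy7 hy1 hd.1 hyd
    rw [show 14 = 2 * 7 from rfl, ← h1]
    have h2 : centralizer ({y * d} : Set Cfsg.Spor.Fi22) =
        centralizer ({y} : Set Cfsg.Spor.Fi22) ⊓ centralizer ({d} : Set Cfsg.Spor.Fi22) := by
      ext x
      rw [mem_inf, mem_centralizer_singleton_iff, mem_centralizer_singleton_iff, mem_centralizer_singleton_iff]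
      constructor
      · intro h
        have hc : Commute x (y * d) := h
        have hydc : Commute y d := hyd
        -- `y = (y d) ^ 8`, `d = (y d) ^ 7`
        have e1 : (y * d) ^ 8 = y := by
          rw [hydc.mul_pow, show d ^ 8 = 1 from by rw [show (8 : ℕ) = 2 * 4 from rfl, pow_mul, pow_two, dd, one_pow],
            pow_succ, hy7, one_mul, mul_one]
        have e2 : (y * d) ^ 7 = d := by
          rw [hydc.mul_pow, hy7, one_mul, pow_succ,
            show d ^ 6 = 1 from by rw [show (6 : ℕ) = 2 * 3 from rfl, pow_mul, pow_two, dd, one_pow], one_mul]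
        constructor
        · have := hc.pow_right 8
          rwa [e1] at this
        · have := hc.pow_right 7
          rwa [e2] at this
      · rintro ⟨h1, h2⟩
        exact ((show Commute x y from h1).mul_right (show Commute x d from h2)).eq
    rw [h2]
  · intro y' hy'
    obtain ⟨d', hd'⟩ := Cfsg.Agent.H713.Spor.Fi22.exists_eleven C (y := y') (by rw [← hy', pow_orderOf_eq_one])
    have hex : ∀ t ∈ T, ∃ c ∈ T, t ≠ c ∧ t * c = c * t := by
      intro t ht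
      have h1 := C.link t ht
      have h2 : {c | c ∈ T ∧ c ≠ t ∧ t * c = c * t}.Nonempty := by
        rw [← Set.ncard_pos, h1]
        norm_num
      obtain ⟨c, h3, h4, h5⟩ := h2
      exact ⟨c, h3, h4.symm, h5⟩
    obtain ⟨c, h1, h2, h3⟩ := hex d hd.1
    obtain ⟨c', h1', h2', h3'⟩ := hex d' hd'.1
    obtain ⟨g, hg, -⟩ := C.transC d hd.1 c h1 d' hd'.1 c' h1' h2 h2' h3 h3'
    refine ⟨g, ?_⟩
    rw [hg]
    exact hd'.2.symm

end Fi22


/-! ### `Fi₂₃` -/

/-- In a rank three configuration any two points can be interchanged. -/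
theorem rank3_swap {G X : Type*} [Group G] [MulAction G X] (R : Cfsg.Agent.Fischer.Abstract.Rank3 G X) (x y : X) :
    ∃ g : G, g • x = y ∧ g • y = x := by
  obtain ⟨g₀, rfl⟩ := R.trans x
  -- move the first point to `x0`
  suffices h : ∀ y : X, ∃ g : G, g • R.x0 = y ∧ g • y = R.x0 by
    obtain ⟨g, h1, h2⟩ := h (g₀⁻¹ • y)
    refine ⟨g₀ * g * g₀⁻¹, ?_, ?_⟩
    · rw [mul_smul, mul_smul, inv_smul_smul, h1, smul_inv_smul]
    · rw [mul_smul, mul_smul, h2]
  intro y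
  obtain ⟨g, rfl⟩ := R.trans y
  by_cases hgx : g • R.x0 = R.x0
  · exact ⟨g, rfl, by rw [hgx, hgx]⟩
  have hgx' : g⁻¹ • R.x0 ≠ R.x0 := by
    intro h
    apply hgx
    conv_lhs => rw [← h]
    rw [smul_inv_smul]
  -- the two points lie in the same orbit of the stabilizer of `x0`
  have key : ∃ k : G, k • R.x0 = R.x0 ∧ k • g⁻¹ • R.x0 = g • R.x0 := by
    have hcom : R.Com R.x0 (g • R.x0) ↔ R.Com R.x0 (g⁻¹ • R.x0) := by
      have h1 := R.com_smul g⁻¹ R.x0 (g • R.x0)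
      rw [inv_smul_smul] at h1
      rw [← h1]
      exact R.com_comm
    rcases R.rank3 (g • R.x0) with h | ⟨h, hx, hy⟩ | ⟨h, hx, hy⟩
    · exact absurd h hgx
    · rcases R.rank3 (g⁻¹ • R.x0) with h' | ⟨h', hx', hy'⟩ | ⟨h', hx', hy'⟩
      · exact absurd h' hgx'
      · refine ⟨h * h'⁻¹, ?_, ?_⟩
        · rw [mul_smul, inv_smul_eq_iff.2 hx'.symm, hx]
        · rw [← hy', ← hy, mul_smul, inv_smul_smul]
      · exfalso
        rw [← hy, ← hy'] at hcom
        have h3 : R.Com R.x0 (h • R.c) := by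
          have := (R.com_smul h R.x0 R.c).2 R.comm_c
          rwa [hx] at this
        have h4 := hcom.1 h3
        have h5 := (R.com_smul h'⁻¹ R.x0 (h' • R.b)).2 h4
        rw [inv_smul_smul, inv_smul_eq_iff.2 hx'.symm] at h5
        exact R.ncomm_b h5
    · rcases R.rank3 (g⁻¹ • R.x0) with h' | ⟨h', hx', hy'⟩ | ⟨h', hx', hy'⟩
      · exact absurd h' hgx'
      · exfalso
        rw [← hy, ← hy'] at hcom
        have h3 : R.Com R.x0 (h' • R.c) := by
          have := (R.com_smul h' R.x0 R.c).2 R.comm_c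
          rwa [hx'] at this
        have h4 := hcom.2 h3
        have h5 := (R.com_smul h⁻¹ R.x0 (h • R.b)).2 h4
        rw [inv_smul_smul, inv_smul_eq_iff.2 hx.symm] at h5
        exact R.ncomm_b h5
      · refine ⟨h * h'⁻¹, ?_, ?_⟩
        · rw [mul_smul, inv_smul_eq_iff.2 hx'.symm, hx]
        · rw [← hy', ← hy, mul_smul, inv_smul_smul]
  obtain ⟨k, hk1, hk2⟩ := key
  refine ⟨k * g⁻¹, ?_, ?_⟩
  · rw [mul_smul, hk2]
  · rw [mul_smul, inv_smul_smul, hk1]

namespace Fi23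

open Cfsg.Spor Cfsg.Agent.R08.FiTwentyThree
open Cfsg.Agent.Fischer.Fi23Class (K)

theorem finite : Finite Cfsg.Spor.Fi23 := finite_fi23

theorem of_fi22 {p : ℕ} (hp : p.Prime) (hp2 : p ≠ 2) (h : HasReal p Cfsg.Spor.Fi22) : HasReal p Cfsg.Spor.Fi23 := by
  have := finite
  exact HasReal_of_quot hp hp2 N theta.symm h

theorem card : Nat.card Cfsg.Spor.Fi23 = 4089470473293004800 := Cfsg.Agent.Fischer.Fi23Simple.card_Fi23

theorem real17 : HasReal 17 Cfsg.Spor.Fi23 := by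
  have := finite
  have hs : IsSimpleGroup Cfsg.Spor.Fi23 := Cfsg.Agent.Fischer.Fi23Simple.isFi23.1
  exact hasReal_fermat (r := 17) (k := 4) (by norm_num) (by norm_num) (by rw [card]; norm_num)
    (by rw [card]; norm_num) (by rw [card]; norm_num)

theorem b23 : Cfsg.Agent.H702.RealB0.HasReal 23 Cfsg.Spor.Fi23 := by
  have := finite
  obtain ⟨R, -, -, -⟩ := exists_rank3
  refine Cfsg.Agent.H139.RealB0.Crit.of_symm_action (Cfsg.Spor.Fi23 ⧸ K) R.x0 ?_ (rank3_swap R)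
  rw [← Subgroup.index_eq_card, Cfsg.Agent.R01.AlphaFi23.index_K]
  norm_num

end Fi23

/-! ### `Fi₂₄'` -/

namespace Fi24

open Cfsg Cfsg.Spor Cfsg.Agent.R08 Cfsg.Agent.R08.FiTwentyFour
open Cfsg.Agent.Fischer.Fi24Class (gen)

theorem of_fi23 {p : ℕ} (h : HasReal p Cfsg.Spor.Fi23) : HasReal p Cfsg.Spor.Fi24' := by
  obtain ⟨x, t, hx, ⟨k, hk⟩, hxt⟩ := h
  have hmem : ∀ g : Fi23, facts.phi g ∈ commutator Fi24 := fun g =>
    Cfsg.Agent.R08.FiTwentyFour.mem_commutator_iff.2 (facts.sgn_phi g)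
  refine ⟨⟨facts.phi x, hmem x⟩, ⟨facts.phi t, hmem t⟩, ?_, ⟨k, ?_⟩, ?_⟩
  · rw [Subgroup.orderOf_mk, orderOf_injective _ facts.phi_injective, hx]
  · rw [Subgroup.orderOf_mk, orderOf_injective _ facts.phi_injective, hk]
  · apply Subtype.ext
    show facts.phi t * facts.phi x * (facts.phi t)⁻¹ = (facts.phi x)⁻¹
    rw [← map_inv, ← map_inv, ← map_mul, ← map_mul, hxt]

open Cfsg.Agent.Fischer.Fi24Final (sgn)

/-- elements of `C(l)` inverted in `C(l)` come from `Fi₂₃` -/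
theorem to_fi23 {p : ℕ} (hp : p.Prime) (hp2 : p ≠ 2) {d x s : Fi24} (hd : d ∈ L) (hx : orderOf x = p)
    (hdx : Commute d x) (hds : Commute d s) (hs : s * x * s⁻¹ = x⁻¹) : HasReal p Cfsg.Spor.Fi23 := by
  have hfin := finite_Fi24
  have hfin3 := Fi23.finite
  obtain ⟨c, hc⟩ := isConj_iff.1 (show IsConj (gen .l) d from hd)
  have hcd : c⁻¹ * d * c = gen .l := by rw [← hc]; group
  -- an element commuting with `d` goes to the range
  have key : ∀ y : Fi24, Commute d y → c⁻¹ * y * c * gen .l = gen .l * (c⁻¹ * y * c) := by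
    intro y hy
    rw [← hcd]
    calc c⁻¹ * y * c * (c⁻¹ * d * c) = c⁻¹ * (y * d) * c := by group
      _ = c⁻¹ * (d * y) * c := by rw [hy.eq]
      _ = c⁻¹ * d * c * (c⁻¹ * y * c) := by group
  have hl : sgn (gen .l) = -1 := sgn_L (gen_mem_L .l)
  have hll : gen .l * gen .l = 1 := sq_L (gen_mem_L .l)
  -- `x`
  have hox : orderOf (c⁻¹ * x * c) = p := by
    have h1 : orderOf (c⁻¹ * x * c⁻¹⁻¹) = orderOf x := (MulAut.conj c⁻¹).orderOf_eq x
    rwa [inv_inv, hx] at h1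
  have hsx : sgn (c⁻¹ * x * c) = 1 := by
    rcases Int.units_eq_one_or (sgn (c⁻¹ * x * c)) with h | h
    · exact h
    · exfalso
      have h1 : sgn (c⁻¹ * x * c) ^ p = 1 := by rw [← map_pow, ← hox, pow_orderOf_eq_one, map_one]
      rw [h, (hp.odd_of_ne_two hp2).neg_one_pow] at h1
      exact absurd h1 (by decide)
  obtain ⟨k, hk⟩ := (facts.mem_range_iff _).2 ⟨key x hdx, hsx⟩
  -- `s`
  have hs' : ∃ u : Fi24, u * gen .l = gen .l * u ∧ sgn u = 1 ∧ u * (c⁻¹ * x * c) * u⁻¹ = (c⁻¹ * x * c)⁻¹ := by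
    have h1 : c⁻¹ * s * c * (c⁻¹ * x * c) * (c⁻¹ * s * c)⁻¹ = (c⁻¹ * x * c)⁻¹ := by
      calc c⁻¹ * s * c * (c⁻¹ * x * c) * (c⁻¹ * s * c)⁻¹ = c⁻¹ * (s * x * s⁻¹) * c := by group
        _ = (c⁻¹ * x * c)⁻¹ := by rw [hs]; group
    rcases Int.units_eq_one_or (sgn (c⁻¹ * s * c)) with h | h
    · exact ⟨_, key s hds, h, h1⟩
    · refine ⟨c⁻¹ * s * c * gen .l, ?_, ?_, ?_⟩
      · rw [key s hds, mul_assoc, key s hds]
      · rw [map_mul, h, hl]; decide
      · have h2 := key x hdx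
        calc c⁻¹ * s * c * gen .l * (c⁻¹ * x * c) * (c⁻¹ * s * c * gen .l)⁻¹
            = c⁻¹ * s * c * (gen .l * (c⁻¹ * x * c)) * (gen .l)⁻¹ * (c⁻¹ * s * c)⁻¹ := by group
          _ = c⁻¹ * s * c * (c⁻¹ * x * c) * (c⁻¹ * s * c)⁻¹ := by rw [← h2]; group
          _ = _ := h1
  obtain ⟨u, hu1, hu2, hu3⟩ := hs'
  obtain ⟨v, hv⟩ := (facts.mem_range_iff _).2 ⟨hu1, hu2⟩
  refine Cfsg.Agent.H722.RealP.hasReal_of_isConj (x := k) ?_ (isConj_iff.2 ⟨v, ?_⟩)
  · rw [← orderOf_injective _ facts.phi_injective, hk, hox]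
  · apply facts.phi_injective
    rw [map_mul, map_mul, map_inv, map_inv, hk, hv, hu3]

theorem real11 : HasReal 11 Cfsg.Spor.Fi23 := by
  refine to_fi23 (by norm_num) (by norm_num) (d := Cfsg.Agent.Fischer.Fi24Rep.gen .i)
    (x := Cfsg.Agent.H843.D11.D.x) (s := Cfsg.Agent.Fischer.Fi24Rep.word Cfsg.Agent.H843.D11.sw)
    Cfsg.Agent.H843.D11.t1.mem Cfsg.Agent.H843.D11.order ?_ ?_ ?_
  · exact ((Cfsg.Agent.H843.D11.t1.comm_iff _).2 Cfsg.Agent.H843.D11.ax'.1).symm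
  · exact ((Cfsg.Agent.H843.D11.t1.comm_iff _).2 Cfsg.Agent.H843.D11.as'.1).symm
  · rw [Cfsg.Agent.H843.D11.conjs]
    refine eq_inv_of_mul_eq_one_left ?_
    rw [← pow_succ]
    have h := pow_orderOf_eq_one Cfsg.Agent.H843.D11.D.x
    rwa [Cfsg.Agent.H843.D11.order] at h

theorem finite : Finite Cfsg.Spor.Fi24' := Cfsg.Agent.H713.Spor.FiTF.finite'

theorem real29 : HasReal 29 Cfsg.Spor.Fi24' := by
  have := finite
  obtain ⟨x, t, hx, -, -, -, hinv⟩ := Cfsg.Agent.H30.IMFi24.exists_x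
  exact Cfsg.Agent.H722.RealP.hasReal_of_isConj hx (isConj_iff.2 ⟨t, hinv⟩)

theorem cent17 : ∃ x : Cfsg.Spor.Fi24', orderOf x = 17 ∧ Nat.card (centralizer ({x} : Set Cfsg.Spor.Fi24')) = 17 := by
  have hfin : Finite Fi24 := finite_Fi24
  have hfin' : Finite Cfsg.Spor.Fi24' := finite
  set X : Fi24 := Cfsg.Agent.H843.D17.D.x with hX
  have ho : orderOf X = 17 := Cfsg.Agent.H843.D17.order
  have hC : Nat.card (centralizer (zpowers X : Set Fi24)) = 34 := Cfsg.Agent.H843.D17.main.2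
  have hXK : X ∈ commutator Fi24 := Cfsg.Agent.H843.Fi24N.mem_commutator (by rw [ho]; decide)
  refine ⟨⟨X, hXK⟩, by rw [Subgroup.orderOf_mk, ho], ?_⟩
  let f : ↥(centralizer ({(⟨X, hXK⟩ : Cfsg.Spor.Fi24')} : Set Cfsg.Spor.Fi24')) →*
      ↥(centralizer (zpowers X : Set Fi24)) :=
    ((commutator Fi24).subtype.comp (centralizer ({(⟨X, hXK⟩ : Cfsg.Spor.Fi24')} : Set Cfsg.Spor.Fi24')).subtype).codRestrict _ (by
      intro y
      rw [Cfsg.Agent.H843.Cyc.mem_centralizer_zpowers]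
      have h1 := mem_centralizer_singleton_iff.1 y.2
      exact congrArg Subtype.val h1)
  have hf : Function.Injective f := by
    intro y z h
    have h1 := (Subtype.mk.injEq _ _ _ _).mp h
    exact Subtype.ext (Subtype.ext h1)
  have h1 := Subgroup.card_dvd_of_injective f hf
  have h17 : 17 ∣ Nat.card (centralizer ({(⟨X, hXK⟩ : Cfsg.Spor.Fi24')} : Set Cfsg.Spor.Fi24')) := by
    have h3 : (⟨X, hXK⟩ : Cfsg.Spor.Fi24') ∈ centralizer ({(⟨X, hXK⟩ : Cfsg.Spor.Fi24')} : Set Cfsg.Spor.Fi24') := by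
      rw [mem_centralizer_singleton_iff]
    have h4 := orderOf_dvd_natCard (⟨_, h3⟩ : ↥(centralizer ({(⟨X, hXK⟩ : Cfsg.Spor.Fi24')} : Set Cfsg.Spor.Fi24')))
    rwa [Subgroup.orderOf_mk, Subgroup.orderOf_mk, ho] at h4
  have hlt : Nat.card (centralizer ({(⟨X, hXK⟩ : Cfsg.Spor.Fi24')} : Set Cfsg.Spor.Fi24')) ≠ 34 := by
    intro h34
    have hsur : Function.Surjective f := by
      have hb := (Nat.bijective_iff_injective_and_card f).2 ⟨hf, by rw [h34, hC]⟩
      exact hb.2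
    have h4 : Cfsg.Agent.Fischer.Fi24Rep.gen .l ∈
        L ∩ (Subgroup.centralizer (Subgroup.zpowers X : Set Fi24) : Set Fi24) := by
      rw [Cfsg.Agent.H843.D17.inter]; rfl
    obtain ⟨z, hz⟩ := hsur ⟨_, h4.2⟩
    have h5 : ((z : Cfsg.Spor.Fi24') : Fi24) = Cfsg.Agent.Fischer.Fi24Rep.gen .l := congrArg Subtype.val hz
    exact FiTwentyFour.odd h4.1 (h5 ▸ (z : Cfsg.Spor.Fi24').2)
  rw [hC] at h1
  obtain ⟨k, hk⟩ := h17
  rw [hk] at h1 hlt ⊢
  have h2 : k ∣ 2 := by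
    rw [show 34 = 17 * 2 from rfl] at h1
    exact Nat.dvd_of_mul_dvd_mul_left (by norm_num) h1
  rcases (Nat.dvd_prime Nat.prime_two).1 h2 with rfl | rfl
  · rfl
  · exact absurd rfl hlt

end Fi24

end Cfsg.Agent.H30.RealFi
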