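import Cfsg.Agent.H995.CopLarge
import Cfsg.Agent.NotCT.Orders
import Cfsg.Agent.H633.CentSporA
import Cfsg.Agent.HoltZ.CentHe
import Cfsg.Agent.HoltZ.Crit
import Cfsg.Agent.KFacts.HS.Sheet
import Cfsg.Agent.KFacts.Ru.Core
import Cfsg.Agent.KFacts.He.Cent
import Cfsg.Agent.RuC.Trans
import Cfsg.Agent.Ru127.Y
import Cfsg.Agent.OddHalf.D4.Spor.RuIso
import Cfsg.Agent.BpRankZero.MRow
import Cfsg.Agent.Mrg.Omega.TwoF.RowHN
import Cfsg.Agent.SmallSimple.ClassDvd

/-!
# S4158: no coprime class sizes in `HS`, `He`, `Ru` (helper30)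

`noCop_of_central` : a Sylow 2-subgroup has a 2-group as centralizer, all 2-central involutions are conjugate, and
for one of them the order of the centralizer has no full odd Sylow part.
-/

set_option autoImplicit false

namespace Cfsg.Agent.H30.CopSpor

open Subgroup Cfsg Cfsg.Agent.H530.Cop Cfsg.Agent.H995.CopTwo

variable {G : Type*} [Group G]

theorem not_comm_of_card [IsSimpleGroup G] (h : ¬ (Nat.card G).Prime) : ¬ IsMulCommutative G := by
  intro hc
  let _ : CommGroup G := { ‹Group G› with mul_comm := hc.is_comm.comm }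
  exact h IsSimpleGroup.prime_card

theorem two_of_prime_of_isPGroup {C : Subgroup G} (h : IsPGroup 2 C) {x : G} (hx : x ∈ C) (hp : (orderOf x).Prime) :
    orderOf x = 2 := by
  obtain ⟨k, hk⟩ := h ⟨x, hx⟩
  have h1 : x ^ 2 ^ k = 1 := congrArg Subtype.val hk
  exact (Nat.prime_dvd_prime_iff_eq hp Nat.prime_two).1 (hp.dvd_of_dvd_pow (orderOf_dvd_of_pow_eq_one h1))

theorem noCop_of_central [Finite G] [IsSimpleGroup G] (hna : ¬ IsMulCommutative G) (hct : H633.CentTwo.CT G)
    (hcen : HoltZ.TwoGen.Central G) {z : G} (hz : orderOf z = 2) (N c : ℕ) (hN : Nat.card G = N)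
    (hc : Nat.card (centralizer ({z} : Set G)) = c) (hodd : Odd (centralizer ({z} : Set G)).index)
    (L : List (ℕ × ℕ)) (hL : chk N c L = true) (hp' : ∀ a ∈ L, a.1.Prime)
    (hk : ∃ k, N ∣ (2 * (L.map Prod.fst).prod) ^ k) : NoCop G := by
  have hf : Fact (Nat.Prime 2) := ⟨Nat.prime_two⟩
  have hz2 : IsTwoCentralInvolution z := by
    obtain ⟨h1, h2⟩ := HoltZ.Crit.orderOf_two hz
    obtain ⟨S, hS⟩ := KFacts.HS.exists_sylow_le _ hodd
    exact HoltZ.Crit.twoCentral h1 h2 ⟨S, fun s hs => mem_cent.1 (hS hs)⟩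
  obtain ⟨T⟩ : Nonempty (Sylow 2 G) := inferInstance
  refine noCop_of_card hna Nat.prime_two (T : Subgroup G) T.2 N c hN (fun x hx hxT => ?_) L hL hp' hk
  have hxc : x ∈ centralizer ((T : Subgroup G) : Set G) := mem_centralizer_iff.2 fun u hu => hxT u hu
  have hx2 := two_of_prime_of_isPGroup (hct T) hxc hx
  obtain ⟨h1, h2⟩ := HoltZ.Crit.orderOf_two hx2
  have hx3 : IsTwoCentralInvolution x := HoltZ.Crit.twoCentral h1 h2 ⟨T, fun s hs => hxT s hs⟩
  have h3 := SmallSimple.ClassDvd.card_centralizer_conj (hcen x z hx3 hz2)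
  rw [← hc, h3]

/-- **He** -/
theorem noCop_he {G : Type*} [Group G] [Finite G] (h : Spor.IsoHe G) : NoCop G := by
  obtain ⟨e⟩ := h
  have hf : Finite Spor.He := Finite.of_equiv _ e.toEquiv
  have hs : IsSimpleGroup Spor.He := KFacts.He.Cent.simpleHe
  have hcard : Nat.card Spor.He = 4030387200 := KFacts.He.Cent.card_He
  have hna := not_comm_of_card (G := Spor.He) (by rw [hcard]; norm_num)
  refine NoCop.congr e.symm (noCop_of_central hna (H633.CentTwo.he ⟨MulEquiv.refl _⟩) HoltZ.CentHe.central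
    (z := KFacts.He.Bound.z) ?_ 4030387200 21504 hcard KFacts.He.Cent.card_cent ?_ [(3, 2), (5, 1), (7, 2), (17, 1)]
    (by decide +kernel) (by decide) ⟨11, by norm_num⟩)
  · exact HoltZ.Crit.two_orderOf (by rw [← KFacts.He.Hyp.hyp.map_zz, ← map_mul, show SporadicRecognition.HeldModel.zC * SporadicRecognition.HeldModel.zC = 1 from Subtype.ext KFacts.TwoSix.Facts.zz_sq, map_one]) KFacts.He.Hyp.z_ne_one
  · have h1 := card_mul_index (centralizer ({KFacts.He.Bound.z} : Set Spor.He))
    rw [KFacts.He.Cent.card_cent, hcard] at h1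
    rw [show (centralizer ({KFacts.He.Bound.z} : Set Spor.He)).index = 187425 by omega]
    decide

theorem not_prime_four {u z x : G} (hu : u * u = z) (hz : z * z = 1) (h1 : z ≠ 1) (hx : x = u) :
    ¬ (orderOf x).Prime := by
  subst hx
  intro hp
  have h4 : x ^ 4 = 1 := by
    rw [show (4 : ℕ) = 2 * 2 by norm_num, pow_mul, pow_two x, hu, pow_two, hz]
  have h2 : orderOf x ∣ 2 ^ 2 := orderOf_dvd_of_pow_eq_one h4
  have h3 := (Nat.prime_dvd_prime_iff_eq hp Nat.prime_two).1 (hp.dvd_of_dvd_pow h2)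
  apply h1
  rw [← hu, ← pow_two, ← h3, pow_orderOf_eq_one]

/-- **HS** -/
theorem noCop_hs {G : Type*} [Group G] [Finite G] (h : Spor.IsoHS G) : NoCop G := by
  have hs : IsSimpleGroup G := Omega.TwoF.RowHS.simple h
  obtain ⟨D⟩ := KFacts.HS.exists_mod h
  have hna := not_comm_of_card (G := G) (by rw [D.card]; norm_num)
  refine noCop_of_card hna Nat.prime_two D.R D.isPGroup_R 44352000 7680 D.card (fun x hx hxT => ?_)
    [(3, 2), (5, 2), (7, 1), (11, 1)] (by decide +kernel) (by decide) ⟨9, by norm_num⟩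
  have hxz : x * D.z = D.z * x := (hxT _ D.zR).symm
  rcases D.cR' x hxz (fun r hr => (hxT r hr).symm) with h1 | h1 | h1 | h1
  · rw [h1, orderOf_one] at hx
    exact absurd hx Nat.not_prime_one
  · rw [h1, D.card_centralizer]
  · exact absurd hx (not_prime_four D.uu D.zz D.z1 h1)
  · rw [h1, orderOf_inv] at hx
    exact absurd hx (not_prime_four D.uu D.zz D.z1 rfl)

/-- **Ru** -/
theorem noCop_ru {G : Type*} [Group G] [Finite G] (h : Spor.IsoRu G) : NoCop G := by
  obtain ⟨C, -⟩ := KFacts.Ru.exists_core h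
  have hcard : Nat.card G = 145926144000 := NotCT.Orders.ru h
  have hs : IsSimpleGroup G := RuC.Trans.isSimple_of_isoRu h
  have hna := not_comm_of_card (G := G) (by rw [hcard]; norm_num)
  have hcen : HoltZ.TwoGen.Central G := HoltZ.Crit.central_of_z1 (OddHalf.D4.Spor.RuIso.sheet_of_core h C).z1
  refine noCop_of_central hna (H633.CentTwo.ru h) hcen (z := C.z 1) ?_ 145926144000 245760 hcard
    (Ru127.Sg.card_cent C) ?_ [(3, 2), (5, 2), (7, 1), (13, 1), (29, 1)] (by decide +kernel) (by decide) ⟨14, by norm_num⟩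
  · exact HoltZ.Crit.two_orderOf (C.z_sq _) (fun h => one_ne_zero (C.z_eq_one h))
  · have h1 := card_mul_index (centralizer ({C.z 1} : Set G))
    rw [Ru127.Sg.card_cent C, hcard] at h1
    rw [show (centralizer ({C.z 1} : Set G)).index = 593775 by omega]
    decide

end Cfsg.Agent.H30.CopSpor
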