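import Cfsg.Agent.H30.PairOrb

/-!
# Functions on unordered pairs of points: the invariants of a pair (helper30)

* `T`, `cl` : the type of a point with respect to `{a, b}` and the invariant of a pair;
* `rev`, `A1_row`, `CC_row` : the rows of the operators.
-/

set_option autoImplicit false

namespace Cfsg.Agent.H30.PairFn

attribute [local instance] Classical.propDecidable

universe u

namespace Ctx

variable {G : Type u} [Group G]

/-- the type of a point -/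
noncomputable def T (X : Ctx G) (x : ℕ) : ℕ :=
  if x = X.a ∨ x = X.b then 0 else if X.com X.a x ∧ X.com X.b x then 1 else if X.com X.a x ∨ X.com X.b x then 2 else 3

/-- the number of points related to `a, b, x, y` -/
noncomputable def n4 (X : Ctx G) (x y : ℕ) : ℕ :=
  (X.PT.filter fun z => X.com X.a z ∧ X.com X.b z ∧ X.com x z ∧ X.com y z).card

/-- the invariant of a pair -/
noncomputable def cl (X : Ctx G) (x y : ℕ) : ℕ := X.n4 x y + 4000 * (X.T x * X.T y)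

variable {X : Ctx G}

theorem cl_symm (x y : ℕ) : X.cl x y = X.cl y x := by
  unfold cl n4
  rw [mul_comm (X.T x)]
  congr 2
  ext z
  simp only [Finset.mem_filter]
  tauto

theorem T_inv {g : G} (hg : g ∈ X.K) (x : ℕ) : X.T (X.ρ g x) = X.T x := by
  unfold T
  have hinj : ∀ y z, X.ρ g y = X.ρ g z ↔ y = z := fun y z => (X.ρ g).injective.eq_iff
  have hc : ∀ y z, X.com (X.ρ g y) (X.ρ g z) ↔ X.com y z := X.inv_iff g
  rcases X.hK g hg with ⟨h1, h2⟩ | ⟨h1, h2⟩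
  · have e1 : X.ρ g x = X.a ↔ x = X.a := by rw [← hinj x, h1]
    have e2 : X.ρ g x = X.b ↔ x = X.b := by rw [← hinj x, h2]
    have e3 : X.com X.a (X.ρ g x) ↔ X.com X.a x := by rw [← hc X.a x, h1]
    have e4 : X.com X.b (X.ρ g x) ↔ X.com X.b x := by rw [← hc X.b x, h2]
    simp only [e1, e2, e3, e4]
  · have e1 : X.ρ g x = X.b ↔ x = X.a := by rw [← hinj x, h1]
    have e2 : X.ρ g x = X.a ↔ x = X.b := by rw [← hinj x, h2]
    have e3 : X.com X.b (X.ρ g x) ↔ X.com X.a x := by rw [← hc X.a x, h1]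
    have e4 : X.com X.a (X.ρ g x) ↔ X.com X.b x := by rw [← hc X.b x, h2]
    simp only [e1, e2, e3, e4]
    have q1 : (x = X.b ∨ x = X.a) ↔ (x = X.a ∨ x = X.b) := or_comm
    have q2 : (X.com X.b x ∧ X.com X.a x) ↔ (X.com X.a x ∧ X.com X.b x) := and_comm
    have q3 : (X.com X.b x ∨ X.com X.a x) ↔ (X.com X.a x ∨ X.com X.b x) := or_comm
    simp only [q1, q2, q3]

theorem n4_inv {g : G} (hg : g ∈ X.K) (x y : ℕ) : X.n4 (X.ρ g x) (X.ρ g y) = X.n4 x y := by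
  unfold n4
  symm
  refine Finset.card_bij (fun z _ => X.ρ g z) ?_ ?_ ?_
  · intro z hz
    rw [Finset.mem_filter] at hz ⊢
    refine ⟨X.mem g hz.1, ?_, ?_, X.inv g hz.2.2.2.1, X.inv g hz.2.2.2.2⟩
    · rcases X.hK g hg with ⟨h1, h2⟩ | ⟨h1, h2⟩
      · have := X.inv g hz.2.1; rwa [h1] at this
      · have := X.inv g hz.2.2.1; rwa [h2] at this
    · rcases X.hK g hg with ⟨h1, h2⟩ | ⟨h1, h2⟩
      · have := X.inv g hz.2.2.1; rwa [h2] at this
      · have := X.inv g hz.2.1; rwa [h1] at this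
  · intro z _ z' _ h
    exact (X.ρ g).injective h
  · intro z hz
    rw [Finset.mem_filter] at hz
    refine ⟨X.ρ g⁻¹ z, ?_, by rw [map_inv, papply_inv]⟩
    have e : X.ρ g (X.ρ g⁻¹ z) = z := by rw [map_inv, papply_inv]
    rw [Finset.mem_filter, ← X.mem_iff g, ← X.inv_iff g X.a, ← X.inv_iff g X.b, ← X.inv_iff g x, ← X.inv_iff g y, e]
    rcases X.hK g hg with ⟨h1, h2⟩ | ⟨h1, h2⟩
    · rw [h1, h2]; exact hz
    · rw [h1, h2]; exact ⟨hz.1, hz.2.2.1, hz.2.1, hz.2.2.2⟩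

theorem cl_inv {g : G} (hg : g ∈ X.K) (x y : ℕ) : X.cl (X.ρ g x) (X.ρ g y) = X.cl x y := by
  unfold cl
  rw [T_inv hg, T_inv hg, n4_inv hg]

/-! ### Rows -/

/-- the sum over the points related to `c` -/
noncomputable def rs (X : Ctx G) (ψ : ℕ → ℕ → ℂ) (c : ℕ) : ℂ := ∑ y ∈ X.PT.filter (fun y => X.com c y), ψ c y

theorem ha_eq {ψ : ℕ → ℕ → ℂ} {c d : ℕ} (hcd : X.com c d) : X.ha ψ c d = X.rs ψ c - X.hf ψ c d - ψ c d := by
  unfold ha rs hf
  have h1 : X.PT.filter (fun y => X.com c y) = insert d (X.PT.filter (fun y => X.com c y ∧ ¬ X.com d y ∧ y ≠ d) ∪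
      X.PT.filter (fun x => X.com c x ∧ X.com d x)) := by
    ext y
    simp only [Finset.mem_insert, Finset.mem_union, Finset.mem_filter]
    constructor
    · rintro ⟨h1, h2⟩
      by_cases h3 : y = d
      · exact Or.inl h3
      · by_cases h4 : X.com d y
        · exact Or.inr (Or.inr ⟨h1, h2, h4⟩)
        · exact Or.inr (Or.inl ⟨h1, h2, h4, h3⟩)
    · rintro (rfl | ⟨h1, h2, -⟩ | ⟨h1, h2, -⟩)
      · exact ⟨X.com_mem (X.symm hcd), hcd⟩
      · exact ⟨h1, h2⟩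
      · exact ⟨h1, h2⟩
  have hd : Disjoint (X.PT.filter (fun y => X.com c y ∧ ¬ X.com d y ∧ y ≠ d))
      (X.PT.filter (fun x => X.com c x ∧ X.com d x)) := by
    rw [Finset.disjoint_left]
    intro x hx hx'
    rw [Finset.mem_filter] at hx hx'
    exact hx.2.2.1 hx'.2.2
  have hn : d ∉ X.PT.filter (fun y => X.com c y ∧ ¬ X.com d y ∧ y ≠ d) ∪
      X.PT.filter (fun x => X.com c x ∧ X.com d x) := by
    rw [Finset.mem_union, Finset.mem_filter, Finset.mem_filter]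
    rintro (h | h)
    · exact h.2.2.2 rfl
    · exact X.ne h.2.2 rfl
  rw [h1, Finset.sum_insert hn, Finset.sum_union hd]
  ring

theorem CC_eq' (h : Tr X) {ψ : ℕ → ℕ → ℂ} (hψ : IsFn X ψ) {c d : ℕ} (hcd : X.com c d) :
    X.CC ψ c d = ((X.PT.filter fun x => X.com c x ∧ X.com d x).card : ℂ) * ψ c d + X.rs ψ c + X.rs ψ d -
      X.A1 ψ c d + X.s5 ψ c d := by
  rw [CC_eq h hψ hcd, ha_eq hcd, ha_eq (X.symm hcd), hψ.symm d c]
  unfold A1
  ring

variable {cls : ℕ → ℕ → ℕ} {T : ℕ → ℕ} {n : ℕ} {c : ℕ → ℕ} {ent : ℕ → List Ent}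

theorem hf_one (c d : ℕ) :
    X.hf (fn X cls fun _ => 1) c d = ((X.PT.filter fun x => X.com c x ∧ X.com d x).card : ℂ) := by
  have h : ∀ x ∈ X.PT.filter (fun x => X.com c x ∧ X.com d x), fn X cls (fun _ => 1) c x = 1 := fun x hx =>
    if_pos (Finset.mem_filter.1 hx).2.1
  unfold hf
  rw [Finset.sum_congr rfl h, Finset.sum_const, nsmul_eq_mul, mul_one]

/-- the reversed pair -/
theorem Orbs.rev (h : Orbs X cls T n c ent) {F : ℕ → ℕ → ℂ} (hK : KInv X F) {τ : ℕ} (hτ : τ < n) {e e' : Ent}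
    (he : e ∈ ent τ) (he' : e' ∈ ent e.τ') (hk : e.k = e'.k) : F e.d (c τ) = F (c e.τ') e'.d := by
  obtain ⟨f, hf, hm, hs, hl, k, hk0, h3, h4⟩ := h.exists_ent (X.symm (h.dcom τ hτ e he))
  have ht : T e.d = e.τ' := h.ty τ hτ e he
  rw [ht] at hf hm h3
  have hkf : f.k = e'.k := by rw [← hl, h.csymm, h.cl τ hτ e he, hk]
  obtain ⟨t3, -⟩ := h.tab _ hm f hf _ hm e' he' hkf
  rw [← h3, ← h4, hK k hk0, t3 rfl]

/-- the row sum at the end of a pair -/
theorem Orbs.rs_end (h : Orbs X cls T n c ent) {ψ : ℕ → ℕ → ℂ} (hK : KInv X ψ) {τ : ℕ} (hτ : τ < n) {e : Ent}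
    (he : e ∈ ent τ) : X.rs ψ e.d = X.rs ψ (c e.τ') := by
  have h1 := h.rep e.d (X.com_mem (X.symm (h.dcom τ hτ e he)))
  rw [h.ty τ hτ e he] at h1
  obtain ⟨-, g, hg, hgx⟩ := h1
  unfold rs
  symm
  refine Finset.sum_bij (fun x _ => X.ρ g x) ?_ ?_ ?_ ?_
  · intro x hx
    rw [Finset.mem_filter] at hx ⊢
    rw [← hgx]
    exact ⟨X.mem g hx.1, X.inv g hx.2⟩
  · intro x _ y _ hxy
    exact (X.ρ g).injective hxy
  · intro y hy
    rw [Finset.mem_filter] at hy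
    have e1 : X.ρ g (X.ρ g⁻¹ y) = y := by rw [map_inv, papply_inv]
    refine ⟨X.ρ g⁻¹ y, ?_, e1⟩
    rw [Finset.mem_filter, ← X.mem_iff g, ← X.inv_iff g, e1, hgx]
    exact hy
  · intro x _
    rw [← hgx]
    exact (hK g hg _ _).symm

end Ctx

end Cfsg.Agent.H30.PairFn
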