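import Mathlib

/-!
# Products of two pairs of commuting 3-transpositions (helper30)

`a, b` commute, `c, d` commute, and each of the pairs `(a, c)`, `(a, d)`, `(b, c)`, `(b, d)` commutes or
satisfies the braid relation. If the products of two reflections of `⟨a, b, c, d⟩` have order `1, 2, 3`, then
`(a b c d) ^ 60 = 1` (`pow_sixty`).
-/

set_option autoImplicit false

namespace Cfsg.Agent.H30.FourTrans

variable {G : Type*} [Group G]

/-- conjugation form of the braid relation -/
theorem braid_conj {s t : G} (ss : s * s = 1) (h : s * t * s = t * s * t) (tt : t * t = 1) :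
    (s * t) ^ 3 = 1 := by
  have h1 : (s * t) ^ 3 = (s * t * s) * (t * s * t) := by
    simp only [pow_succ, pow_zero, one_mul, mul_assoc]
  rw [h1, h]
  calc t * s * t * (t * s * t) = t * s * (t * t) * s * t := by group
    _ = t * (s * s) * t := by rw [tt]; group
    _ = 1 := by rw [ss, mul_one, tt]

/-- `A₃`: the product of the generators has order 4 -/
theorem path_three {s t u : G} (ss : s * s = 1) (tt : t * t = 1) (uu : u * u = 1)
    (st : s * t * s = t * s * t) (tu : t * u * t = u * t * u) (su : s * u = u * s) :
    (s * t * u) ^ 4 = 1 := by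
  have h3 : (t * u) ^ 3 = 1 := braid_conj tt tu uu
  set z := s * t * u with hz
  -- `z s z⁻¹ = t`, `z t z⁻¹ = u`
  have e1 : z * s = t * z := by
    calc z * s = s * t * (u * s) := by rw [hz]; group
      _ = (s * t * s) * u := by rw [← su]; group
      _ = t * z := by rw [st, hz]; group
  have e2 : z * t = u * z := by
    calc z * t = s * (t * u * t) := by rw [hz]; group
      _ = (s * u) * (t * u) := by rw [tu]; group
      _ = u * z := by rw [su, hz]; group
  -- `(s z)^3 = s t u z^3`
  have h4 : (s * z) ^ 3 = z ^ 4 := by
    calc (s * z) ^ 3 = s * (z * s) * (z * s) * z := by simp only [pow_succ, pow_zero, one_mul, mul_assoc]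
      _ = s * t * (z * t) * z * z := by rw [e1]; group
      _ = (s * t * u) * z * z * z := by rw [e2]; group
      _ = z ^ 4 := by rw [← hz]; simp only [pow_succ, pow_zero, one_mul, mul_assoc]
  rw [← h4]
  have h5 : s * z = t * u := by
    rw [hz]
    calc s * (s * t * u) = (s * s) * t * u := by group
      _ = t * u := by rw [ss, one_mul]
  rw [h5, h3]

/-- `A₄`: the product of the generators has order 5 -/
theorem path_four {s t u v : G} (ss : s * s = 1) (tt : t * t = 1) (uu : u * u = 1) (vv : v * v = 1)
    (st : s * t * s = t * s * t) (tu : t * u * t = u * t * u) (uv : u * v * u = v * u * v)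
    (su : s * u = u * s) (sv : s * v = v * s) (tv : t * v = v * t) :
    (s * t * u * v) ^ 5 = 1 := by
  have h3 : (t * u * v) ^ 4 = 1 := path_three tt uu vv tu uv tv
  set z := s * t * u * v with hz
  have e1 : z * s = t * z := by
    calc z * s = s * t * u * (v * s) := by rw [hz]; group
      _ = s * t * (u * s) * v := by rw [← sv]; group
      _ = (s * t * s) * u * v := by rw [← su]; group
      _ = t * z := by rw [st, hz]; group
  have e2 : z * t = u * z := by
    calc z * t = s * t * u * (v * t) := by rw [hz]; group
      _ = s * (t * u * t) * v := by rw [← tv]; group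
      _ = (s * u) * (t * u) * v := by rw [tu]; group
      _ = u * z := by rw [su, hz]; group
  have e3 : z * u = v * z := by
    calc z * u = s * t * (u * v * u) := by rw [hz]; group
      _ = s * (t * v) * (u * v) := by rw [uv]; group
      _ = (s * v) * (t * u * v) := by rw [tv]; group
      _ = v * z := by rw [sv, hz]; group
  have h4 : (s * z) ^ 4 = z ^ 5 := by
    calc (s * z) ^ 4 = s * (z * s) * (z * s) * (z * s) * z := by
          simp only [pow_succ, pow_zero, one_mul, mul_assoc]
      _ = s * t * (z * t) * (z * t) * z * z := by rw [e1]; group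
      _ = s * t * u * (z * u) * z * z * z := by rw [e2]; group
      _ = (s * t * u * v) * z * z * z * z := by rw [e3]; group
      _ = z ^ 5 := by rw [← hz]; simp only [pow_succ, pow_zero, one_mul, mul_assoc]
  rw [← h4]
  have h5 : s * z = t * u * v := by
    rw [hz]
    calc s * (s * t * u * v) = (s * s) * t * u * v := by group
      _ = t * u * v := by rw [ss, one_mul]
  rw [h5, h3]

/-- the tools for `D`, a set of 3-transpositions -/
structure Tr (D : Set G) : Prop where
  sq : ∀ a ∈ D, a * a = 1
  conj : ∀ a ∈ D, ∀ g : G, g * a * g⁻¹ ∈ D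
  three : ∀ a ∈ D, ∀ b ∈ D, a * b = b * a ∨ a * b * a = b * a * b

namespace Tr

variable {D : Set G} (h : Tr D)
include h

theorem inv {a : G} (ha : a ∈ D) : a⁻¹ = a := inv_eq_of_mul_eq_one_left (h.sq a ha)

theorem conj' {a b : G} (ha : a ∈ D) (hb : b ∈ D) : b * a * b ∈ D := by
  have h1 := h.conj a ha b
  rwa [h.inv hb] at h1

/-- the product of two has order dividing 6 -/
theorem six {a b : G} (ha : a ∈ D) (hb : b ∈ D) : (a * b) ^ 6 = 1 := by
  rcases h.three a ha b hb with h1 | h1
  · have h2 : (a * b) ^ 2 = 1 := by
      rw [pow_two]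
      calc a * b * (a * b) = a * (b * a) * b := by group
        _ = (a * a) * (b * b) := by rw [← h1]; group
        _ = 1 := by rw [h.sq a ha, h.sq b hb, one_mul]
    rw [show 6 = 2 * 3 by norm_num, pow_mul, h2, one_pow]
  · rw [show 6 = 3 * 2 by norm_num, pow_mul, braid_conj (h.sq a ha) h1 (h.sq b hb), one_pow]

/-- three of them, `a` and `c` commuting -/
theorem three_pow {a b c : G} (ha : a ∈ D) (hb : b ∈ D) (hc : c ∈ D) (hac : a * c = c * a) :
    (a * b * c) ^ 12 = 1 := by
  rcases h.three a ha b hb with h1 | h1
  · -- `a` commutes with `b` and `c`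
    have h2 : Commute a (b * c) := by
      show a * (b * c) = b * c * a
      rw [← mul_assoc, h1, mul_assoc, hac, mul_assoc]
    rw [mul_assoc, h2.mul_pow, show 12 = 2 * 6 by norm_num, pow_mul a, pow_two, h.sq a ha, one_pow,
      one_mul, mul_comm 2 6, pow_mul, h.six hb hc, one_pow]
  · rcases h.three b hb c hc with h2 | h2
    · have h3 : Commute (a * b) c := by
        show a * b * c = c * (a * b)
        rw [mul_assoc, h2, ← mul_assoc, hac, mul_assoc]
      rw [h3.mul_pow, show 12 = 6 * 2 by norm_num, pow_mul (a * b), h.six ha hb, one_pow, one_mul,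
        mul_comm 6 2, pow_mul, pow_two, h.sq c hc, one_pow]
    · rw [show 12 = 4 * 3 by norm_num, pow_mul,
        path_three (h.sq a ha) (h.sq b hb) (h.sq c hc) h1 h2 hac, one_pow]

/-- the 4-cycle -/
theorem cycle {a b c d : G} (ha : a ∈ D) (hb : b ∈ D) (hc : c ∈ D) (hd : d ∈ D) (ab : a * b = b * a)
    (cd : c * d = d * c) (ac : a * c * a = c * a * c) (ad : a * d * a = d * a * d)
    (bc : b * c * b = c * b * c) (bd : b * d * b = d * b * d) : (a * b * (c * d)) ^ 12 = 1 := by
  have aa := h.sq a ha
  have bb := h.sq b hb
  have cc := h.sq c hc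
  have dd := h.sq d hd
  set S := c * b * d * b * c with hS
  set T := d * a * c * a * d with hT
  have hSD : S ∈ D := by
    have h1 := h.conj' (h.conj' hd hb) hc
    rwa [show c * (b * d * b) * c = c * b * d * b * c by group] at h1
  have hTD : T ∈ D := by
    have h1 := h.conj' (h.conj' hc ha) hd
    rwa [show d * (a * c * a) * d = d * a * c * a * d by group] at h1
  -- `y ^ 2 = (a S) (b T)`
  have h2 : (a * b * (c * d)) ^ 2 = (a * S) * (b * T) := by
    symm
    calc (a * S) * (b * T) = a * c * b * d * (b * c * b) * d * a * c * a * d := by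
          rw [hS, hT]; group
      _ = a * (c * b) * (d * c) * b * (c * d) * a * c * a * d := by rw [bc]; group
      _ = a * (c * b) * (c * d) * b * (d * c) * a * c * a * d := by rw [← cd]
      _ = a * (c * b * c) * (d * b * d) * (c * a * c) * a * d := by group
      _ = a * b * c * (b * b) * d * (b * a) * c * (a * a) * d := by rw [← bc, ← bd, ← ac]; group
      _ = a * b * (c * d) * (b * a) * (c * d) := by rw [bb, aa]; group
      _ = (a * b * (c * d)) ^ 2 := by rw [← ab, pow_two]; group
  -- commutation
  have aT : a * T = T * a := by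
    calc a * T = (a * d * a) * c * a * d := by rw [hT]; group
      _ = d * a * (d * c) * a * d := by rw [ad]; group
      _ = d * a * c * (d * a * d) := by rw [← cd]; group
      _ = T * a := by rw [← ad, hT]; group
  have bS : b * S = S * b := by
    calc b * S = (b * c * b) * d * b * c := by rw [hS]; group
      _ = c * b * (c * d) * b * c := by rw [bc]; group
      _ = c * b * d * (c * b * c) := by rw [cd]; group
      _ = S * b := by rw [← bc, hS]; group
  have hS' : S = d * b * c * b * d := by
    calc S = c * (b * d * b) * c := by rw [hS]; group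
      _ = (c * d) * b * (d * c) := by rw [bd]; group
      _ = (d * c) * b * (c * d) := by rw [cd]
      _ = d * (c * b * c) * d := by group
      _ = d * b * c * b * d := by rw [← bc]; group
  have ST : S * T = T * S := by
    calc S * T = d * b * c * b * (d * d) * a * c * a * d := by rw [hS', hT]; group
      _ = d * (b * c * b) * (a * c * a) * d := by rw [dd]; group
      _ = d * c * b * (c * c) * a * c * d := by rw [bc, ac]; group
      _ = d * c * (b * a) * c * d := by rw [cc]; group
      _ = d * c * a * (c * c) * b * c * d := by rw [← ab, cc]; group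
      _ = d * (c * a * c) * (c * b * c) * d := by group
      _ = d * a * c * a * (d * d) * b * c * b * d := by rw [← ac, ← bc, dd]; group
      _ = T * S := by rw [hS', hT]; group
  have hcomm : Commute (a * S) (b * T) := by
    show a * S * (b * T) = b * T * (a * S)
    calc a * S * (b * T) = a * (S * b) * T := by group
      _ = (a * b) * (S * T) := by rw [← bS]; group
      _ = b * (a * T) * S := by rw [ab, ST]; group
      _ = b * T * (a * S) := by rw [aT]; group
  rw [show 12 = 2 * 6 by norm_num, pow_mul, h2, hcomm.mul_pow, h.six ha hSD, h.six hb hTD, one_mul]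

/-- three edges -/
theorem path {a b c d : G} (ha : a ∈ D) (hb : b ∈ D) (hc : c ∈ D) (hd : d ∈ D) (ab : a * b = b * a)
    (cd : c * d = d * c) (ac : a * c * a = c * a * c) (ad : a * d = d * a)
    (bc : b * c * b = c * b * c) (bd : b * d * b = d * b * d) : (a * b * (c * d)) ^ 5 = 1 := by
  have bb := h.sq b hb
  have dd := h.sq d hd
  -- conjugate to `a c b d`
  have h1 : (a * c * b * d) ^ 5 = 1 :=
    path_four (h.sq a ha) (h.sq c hc) bb dd ac (by rw [← bc]) bd ab ad cd
  have h2 : a * b * (c * d) = (b * d) * (a * c * b * d) * (b * d)⁻¹ := by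
    rw [eq_mul_inv_iff_mul_eq]
    calc a * b * (c * d) * (b * d) = (b * a) * (d * c) * b * d := by rw [ab, cd]; group
      _ = b * (d * a) * c * b * d := by rw [← ad]; group
      _ = b * d * (a * c * b * d) := by group
  rw [h2, conj_pow, h1]
  group

/-- `a` commutes with `b`, `c`, `d` -/
theorem isolated {a b c d : G} (ha : a ∈ D) (hb : b ∈ D) (hc : c ∈ D) (hd : d ∈ D) (ab : a * b = b * a)
    (cd : c * d = d * c) (ac : a * c = c * a) (ad : a * d = d * a) : (a * b * (c * d)) ^ 60 = 1 := by
  have h1 : Commute a (b * (c * d)) := by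
    have e1 : Commute a b := ab
    have e2 : Commute a c := ac
    have e3 : Commute a d := ad
    exact e1.mul_right (e2.mul_right e3)
  have h2 : (b * (c * d)) ^ 12 = 1 := by
    have e : b * (c * d) = c * (c * b * d) * c⁻¹ := by
      rw [eq_mul_inv_iff_mul_eq]
      calc b * (c * d) * c = b * (d * c) * c := by rw [cd]
        _ = b * d * (c * c) := by group
        _ = (c * c) * b * d := by rw [h.sq c hc]; group
        _ = c * (c * b * d) := by group
    rw [e, conj_pow, h.three_pow hc hb hd cd]
    group
  rw [mul_assoc, h1.mul_pow, show 60 = 2 * 30 by norm_num, pow_mul a, pow_two, h.sq a ha, one_pow,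
    one_mul, show 2 * 30 = 12 * 5 by norm_num, pow_mul, h2, one_pow]

omit h in
/-- exchanging the pairs -/
theorem swap_pairs {a b c d : G} {n : ℕ} (h1 : (c * d * (a * b)) ^ n = 1) :
    (a * b * (c * d)) ^ n = 1 := by
  have e : a * b * (c * d) = (a * b) * (c * d * (a * b)) * (a * b)⁻¹ := by group
  rw [e, conj_pow, h1]
  group

/-- **The product of two pairs of commuting 3-transpositions has order dividing 60.** -/
theorem pow_sixty {a b c d : G} (ha : a ∈ D) (hb : b ∈ D) (hc : c ∈ D) (hd : d ∈ D) (ab : a * b = b * a)
    (cd : c * d = d * c) : (a * b * (c * d)) ^ 60 = 1 := by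
  have p5 : ∀ {y : G}, y ^ 5 = 1 → y ^ 60 = 1 := fun {y} hy => by
    rw [show 60 = 5 * 12 by norm_num, pow_mul, hy, one_pow]
  -- two disjoint edges `a - c`, `b - d`
  have disj : ∀ {a b c d : G}, a ∈ D → b ∈ D → c ∈ D → d ∈ D → a * b = b * a → c * d = d * c →
      a * d = d * a → b * c = c * b → (a * b * (c * d)) ^ 60 = 1 := by
    intro a b c d ha hb hc hd ab cd ad bc
    have e1 : Commute (a * c) (b * d) := by
      have u1 : Commute a b := ab
      have u2 : Commute a d := ad
      have u3 : Commute c b := bc.symm
      have u4 : Commute c d := cd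
      exact (u1.mul_right u2).mul_left (u3.mul_right u4)
    have e2 : a * b * (c * d) = (a * c) * (b * d) := by
      calc a * b * (c * d) = a * (b * c) * d := by group
        _ = (a * c) * (b * d) := by rw [bc]; group
    rw [e2, e1.mul_pow, show 60 = 6 * 10 by norm_num, pow_mul, pow_mul, h.six ha hc, h.six hb hd]
    simp
  rcases h.three a ha c hc with ac | ac <;> rcases h.three a ha d hd with ad | ad <;>
    rcases h.three b hb c hc with bc | bc <;> rcases h.three b hb d hd with bd | bd
  · exact h.isolated ha hb hc hd ab cd ac ad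
  · exact h.isolated ha hb hc hd ab cd ac ad
  · exact h.isolated ha hb hc hd ab cd ac ad
  · exact h.isolated ha hb hc hd ab cd ac ad
  · -- edge `a - d` only
    have := h.isolated hb ha hc hd ab.symm cd bc bd
    rwa [← ab] at this
  · -- `a - d`, `b - d`: `c` isolated
    exact swap_pairs (h.isolated hc hd ha hb cd ab ac.symm bc.symm)
  · -- `a - d`, `b - c`
    have := disj ha hb hd hc ab cd.symm ac bd
    rwa [← cd] at this
  · -- `a - d`, `b - c`, `b - d`: path `a d b c`
    have := h.path ha hb hd hc ab cd.symm ad ac bd bc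
    rw [← cd] at this
    exact p5 this
  · -- `a - c`
    have := h.isolated hb ha hc hd ab.symm cd bc bd
    rwa [← ab] at this
  · -- `a - c`, `b - d`
    exact disj ha hb hc hd ab cd ad bc
  · -- `a - c`, `b - c`: `d` isolated
    have := h.isolated hd hc ha hb cd.symm ab ad.symm bd.symm
    rw [← cd] at this
    exact swap_pairs this
  · -- path `a c b d`
    exact p5 (h.path ha hb hc hd ab cd ac ad bc bd)
  · -- `a - c`, `a - d`
    have := h.isolated hb ha hc hd ab.symm cd bc bd
    rwa [← ab] at this
  · -- `a - c`, `a - d`, `b - d`: path `b d a c`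
    have := h.path hb ha hd hc ab.symm cd.symm bd bc ad ac
    rw [← ab, ← cd] at this
    exact p5 this
  · -- `a - c`, `a - d`, `b - c`: path `b c a d`
    have := h.path hb ha hc hd ab.symm cd bc bd ac ad
    rw [← ab] at this
    exact p5 this
  · rw [show 60 = 12 * 5 by norm_num, pow_mul, h.cycle ha hb hc hd ab cd ac ad bc bd, one_pow]

end Tr

end Cfsg.Agent.H30.FourTrans
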