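import Cfsg.Agent.H30.GraphFi24A
import Cfsg.Agent.H30.FiE.Deg

/-!
# The degree graph of `Fi₂₄'` (helper30)

* `facts_fi24` : the degree graph of `Fi24'` is connected, has no three pairwise nonadjacent vertices and has a triangle.

The degrees 57477 and 249458 come from the action on the 306936 transpositions, the degrees 79452373, 159402880 and
112168056 of `Fi24` from the action on the 4860485028 pairs of commuting transpositions.
-/

set_option autoImplicit false

namespace Cfsg.Agent.H30.GraphFi24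

open Cfsg Cfsg.Agent.H671.H5
open Cfsg.Spor (Fi24)

universe u

/-- descent of a degree to `Fi24'` -/
theorem cl_down {D m : ℕ} (h : ∃ χ : IrrCharacter Fi24, charDegree (χ : Fi24 → ℂ) = D)
    (hD : D = 2 * m ∨ (D = m ∧ ¬ 2 ∣ D)) (h0 : m ≠ 0) : H653.Graph.Cl Spor.Fi24' [m] := by
  have hfin : Finite Fi24 := Cfsg.Agent.R08.FiTwentyFour.finite_Fi24
  obtain ⟨χ, hχ⟩ := h
  obtain ⟨c, ⟨θ, hθ⟩, ⟨k, hk⟩, h2⟩ := Cfsg.Agent.H424.DegTools.clifford_down (commutator Fi24)
    (d := charDegree (χ : Fi24 → ℂ)) ⟨χ, rfl⟩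
  rw [Cfsg.Agent.R08.FiTwentyFour.index_commutator] at h2
  rw [hχ] at hk h2
  have hc : 0 < c := by
    rcases Nat.eq_zero_or_pos c with h | h
    · rw [h, zero_mul] at hk; omega
    · exact h
  rw [hk, Nat.mul_div_cancel_left _ hc] at h2
  refine ⟨m, by simp, θ, ?_⟩
  have h3 : charDegree (θ : Spor.Fi24' → ℂ) = c := hθ
  rw [h3]
  rcases (Nat.dvd_prime Nat.prime_two).1 h2 with rfl | rfl
  · rw [mul_one] at hk
    rcases hD with h | ⟨h, -⟩
    · exact ⟨2, by omega⟩
    · exact ⟨1, by omega⟩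
  · rcases hD with h | ⟨-, h⟩
    · exact ⟨1, by omega⟩
    · exact absurd ⟨c, by omega⟩ h

/-- the clauses -/
def E1 : List (List ℕ) := [[57477], [249458], [79452373], [79701440], [56084028]]

theorem cl_E1 : ∀ c ∈ E1, H653.Graph.Cl Spor.Fi24' c := by
  intro c hc
  unfold E1 at hc
  simp only [List.mem_cons, List.not_mem_nil, or_false] at hc
  rcases hc with rfl | rfl | rfl | rfl | rfl
  · exact H653.Graph.Cl.of_deg exists_deg.1
  · exact H653.Graph.Cl.of_deg exists_deg.2
  · exact cl_down FiE.exists_a (by norm_num) (by norm_num)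
  · exact cl_down FiE.exists_b (by norm_num) (by norm_num)
  · exact cl_down FiE.exists_c (by norm_num) (by norm_num)

/-- **Among three vertices of the degree graph of `Fi₂₄'` two are adjacent.** -/
theorem ind : ∀ p ∈ degreePrimes Spor.Fi24', ∀ q ∈ degreePrimes Spor.Fi24', ∀ r ∈ degreePrimes Spor.Fi24',
    p ≠ q → q ≠ r → p ≠ r → Adj p q Spor.Fi24' ∨ Adj q r Spor.Fi24' ∨ Adj p r Spor.Fi24' := by
  intro p hp q hq r hr
  rw [mem_deg] at hp hq hr
  exact H653.Graph.ind_of_chk primes_P cl_E1 (by decide +kernel) p hp q hq r hr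

/-- **The degree graph of `Fi₂₄'`.** -/
theorem facts_fi24 {S : Type u} [Group S] (h : Spor.IsoFi24' S) : H678.DG.Facts S := by
  obtain ⟨e⟩ := h
  exact H678.DG.Facts.of_equiv e ⟨conn, ind, tri⟩

end Cfsg.Agent.H30.GraphFi24
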