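import Cfsg.Agent.H678.DG.Sph

/-!
# Functions on unordered pairs of points (helper30)

`Ctx` : a finite group `G` acts on `ℕ` (`ρ`), `PT` is a finite invariant set of points, `com` an invariant symmetric
irreflexive relation on it with a transitive action on the related pairs, `t p` an element of `G` attached to the point
`p`, equivariantly. `E` is the `G`-set of the unordered related pairs.

Functions on `E` are considered as symmetric functions `ψ c d`, `0` if the pair is not related (`ev`, `IsFn`).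

* `A1 ψ c d = ∑_{x related to c and d} (ψ c x + ψ d x)`,
* `CC ψ c d = ∑_x ψ (t x • c) (t x • d)`,
* `exists_deg` : degrees of irreducible characters from a common eigenfunction of `A1` and `CC` which is determined by
  the invariance under a subgroup `K` of the stabiliser of `{a, b}`.
-/

set_option autoImplicit false

namespace Cfsg.Agent.H30.PairFn

open Cfsg
open scoped ComplexConjugate

universe u

attribute [local instance] Classical.propDecidable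

theorem pinv_apply (g : Equiv.Perm ℕ) (i : ℕ) : g⁻¹ (g i) = i := g.symm_apply_apply i

theorem papply_inv (g : Equiv.Perm ℕ) (i : ℕ) : g (g⁻¹ i) = i := g.apply_symm_apply i

/-- The data. -/
structure Ctx (G : Type u) [Group G] where
  ρ : G →* Equiv.Perm ℕ
  PT : Finset ℕ
  com : ℕ → ℕ → Prop
  t : ℕ → G
  a : ℕ
  b : ℕ
  K : Subgroup G
  mem : ∀ (g : G) {p : ℕ}, p ∈ PT → ρ g p ∈ PT
  symm : ∀ {c d : ℕ}, com c d → com d c
  inv : ∀ (g : G) {c d : ℕ}, com c d → com (ρ g c) (ρ g d)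
  com_mem : ∀ {c d : ℕ}, com c d → c ∈ PT
  ne : ∀ {c d : ℕ}, com c d → c ≠ d
  trans : ∀ {c d c' d' : ℕ}, com c d → com c' d' → ∃ g : G, ρ g c = c' ∧ ρ g d = d'
  ht : ∀ (g : G) {p : ℕ}, p ∈ PT → t (ρ g p) = g * t p * g⁻¹
  hab : com a b
  hK : ∀ g ∈ K, (ρ g a = a ∧ ρ g b = b) ∨ (ρ g a = b ∧ ρ g b = a)

namespace Ctx

variable {G : Type u} [Group G] (X : Ctx G)

theorem mem_iff (g : G) (p : ℕ) : X.ρ g p ∈ X.PT ↔ p ∈ X.PT := by
  constructor
  · intro h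
    have h1 := X.mem g⁻¹ h
    rwa [map_inv, pinv_apply] at h1
  · exact X.mem g

theorem inv_iff (g : G) (c d : ℕ) : X.com (X.ρ g c) (X.ρ g d) ↔ X.com c d := by
  constructor
  · intro h
    have h1 := X.inv g⁻¹ h
    rwa [map_inv, pinv_apply, pinv_apply] at h1
  · exact X.inv g

theorem symm_iff (c d : ℕ) : X.com c d ↔ X.com d c := ⟨X.symm, X.symm⟩

/-- The unordered related pairs. -/
def E : Type := {s : Sym2 ℕ // ∃ c d, X.com c d ∧ s = s(c, d)}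

/-- the pair -/
def pr {c d : ℕ} (h : X.com c d) : X.E := ⟨s(c, d), c, d, h, rfl⟩

theorem exists_pr (e : X.E) : ∃ (c d : ℕ) (h : X.com c d), e = X.pr h := by
  obtain ⟨s, c, d, h, rfl⟩ := e
  exact ⟨c, d, h, rfl⟩

theorem pr_swap {c d : ℕ} (h : X.com c d) : X.pr h = X.pr (X.symm h) := Subtype.ext Sym2.eq_swap

theorem pr_eq {c d c' d' : ℕ} (h : X.com c d) (h' : X.com c' d') :
    X.pr h = X.pr h' ↔ (c = c' ∧ d = d') ∨ (c = d' ∧ d = c') := by
  rw [← Sym2.eq_iff]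
  exact ⟨fun h1 => congrArg Subtype.val h1, fun h1 => Subtype.ext h1⟩

instance : MulAction G X.E where
  smul g s := ⟨Sym2.map (X.ρ g) s.1, by
    obtain ⟨c, d, h, hs⟩ := s.2
    exact ⟨_, _, X.inv g h, by rw [hs, Sym2.map_mk]⟩⟩
  one_smul s := by
    obtain ⟨c, d, h, rfl⟩ := X.exists_pr s
    apply Subtype.ext
    show Sym2.map (X.ρ 1) s(c, d) = s(c, d)
    rw [map_one, Sym2.map_mk]
    rfl
  mul_smul g k s := by
    obtain ⟨c, d, h, rfl⟩ := X.exists_pr s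
    apply Subtype.ext
    show Sym2.map (X.ρ (g * k)) s(c, d) = Sym2.map (X.ρ g) (Sym2.map (X.ρ k) s(c, d))
    rw [map_mul, Sym2.map_mk, Sym2.map_mk, Sym2.map_mk]
    rfl

theorem smul_pr (g : G) {c d : ℕ} (h : X.com c d) : g • X.pr h = X.pr (X.inv g h) := rfl

instance : MulAction.IsPretransitive G X.E where
  exists_smul_eq e e' := by
    obtain ⟨c, d, h, rfl⟩ := X.exists_pr e
    obtain ⟨c', d', h', rfl⟩ := X.exists_pr e'
    obtain ⟨g, rfl, rfl⟩ := X.trans h h'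
    exact ⟨g, rfl⟩

instance : Finite X.E := by
  have : Finite {s : Sym2 ℕ // s ∈ X.PT.sym2} := inferInstance
  refine Finite.of_injective (β := {s : Sym2 ℕ // s ∈ X.PT.sym2}) (fun e => ⟨e.1, ?_⟩) ?_
  · obtain ⟨c, d, h, hs⟩ := e.2
    rw [hs, Finset.mk_mem_sym2_iff]
    exact ⟨X.com_mem h, X.com_mem (X.symm h)⟩
  · intro e e' h
    exact Subtype.ext (Subtype.mk.injEq _ _ _ _ ▸ h)

/-- A function on `E` as a function of two points. -/
noncomputable def ev (φ : X.E → ℂ) (c d : ℕ) : ℂ := if h : X.com c d then φ (X.pr h) else 0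

variable {X}

theorem ev_of {φ : X.E → ℂ} {c d : ℕ} (h : X.com c d) : X.ev φ c d = φ (X.pr h) := dif_pos h

theorem ev_not {φ : X.E → ℂ} {c d : ℕ} (h : ¬ X.com c d) : X.ev φ c d = 0 := dif_neg h

/-- symmetric functions of two points with support in `com` -/
structure IsFn (X : Ctx G) (ψ : ℕ → ℕ → ℂ) : Prop where
  symm : ∀ c d, ψ c d = ψ d c
  zero : ∀ c d, ¬ X.com c d → ψ c d = 0

theorem isFn_ev (φ : X.E → ℂ) : IsFn X (X.ev φ) where
  symm c d := by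
    by_cases h : X.com c d
    · rw [ev_of h, ev_of (X.symm h), X.pr_swap]
    · rw [ev_not h, ev_not fun h' => h (X.symm h')]
  zero c d h := ev_not h

theorem exists_ev {ψ : ℕ → ℕ → ℂ} (h : IsFn X ψ) : ∃ φ : X.E → ℂ, X.ev φ = ψ := by
  refine ⟨fun e => Sym2.lift ⟨ψ, h.symm⟩ e.1, ?_⟩
  funext c d
  by_cases h1 : X.com c d
  · rw [ev_of h1]
    show Sym2.lift ⟨ψ, h.symm⟩ s(c, d) = _
    rw [Sym2.lift_mk]
  · rw [ev_not h1, h.zero c d h1]

theorem ev_inj {φ φ' : X.E → ℂ} (h : X.ev φ = X.ev φ') : φ = φ' := by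
  funext e
  obtain ⟨c, d, h1, rfl⟩ := X.exists_pr e
  rw [← ev_of (φ := φ) h1, ← ev_of (φ := φ') h1, h]

theorem ev_smul_act (φ : X.E → ℂ) (g : G) (c d : ℕ) :
    X.ev (fun e => φ (g • e)) c d = X.ev φ (X.ρ g c) (X.ρ g d) := by
  by_cases h : X.com c d
  · rw [ev_of h, ev_of (X.inv g h), X.smul_pr]
  · rw [ev_not h, ev_not fun h' => h ((X.inv_iff g c d).1 h')]

theorem ev_add (φ φ' : X.E → ℂ) (c d : ℕ) : X.ev (φ + φ') c d = X.ev φ c d + X.ev φ' c d := by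
  by_cases h : X.com c d
  · rw [ev_of h, ev_of h, ev_of h, Pi.add_apply]
  · rw [ev_not h, ev_not h, ev_not h, add_zero]

theorem ev_smul (z : ℂ) (φ : X.E → ℂ) (c d : ℕ) : X.ev (z • φ) c d = z * X.ev φ c d := by
  by_cases h : X.com c d
  · rw [ev_of h, ev_of h, Pi.smul_apply, smul_eq_mul]
  · rw [ev_not h, ev_not h, mul_zero]

/-! ### The operators -/

/-- half of the first operator -/
noncomputable def hf (X : Ctx G) (ψ : ℕ → ℕ → ℂ) (c d : ℕ) : ℂ :=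
  ∑ x ∈ X.PT.filter (fun x => X.com c x ∧ X.com d x), ψ c x

/-- the first operator -/
noncomputable def A1 (X : Ctx G) (ψ : ℕ → ℕ → ℂ) (c d : ℕ) : ℂ := X.hf ψ c d + X.hf ψ d c

/-- the second operator -/
noncomputable def CC (X : Ctx G) (ψ : ℕ → ℕ → ℂ) (c d : ℕ) : ℂ :=
  ∑ x ∈ X.PT, ψ (X.ρ (X.t x) c) (X.ρ (X.t x) d)

theorem hf_act (ψ : ℕ → ℕ → ℂ) (g : G) (c d : ℕ) :
    X.hf (fun c d => ψ (X.ρ g c) (X.ρ g d)) c d = X.hf ψ (X.ρ g c) (X.ρ g d) := by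
  unfold hf
  refine Finset.sum_bij (fun x _ => X.ρ g x) ?_ ?_ ?_ ?_
  · intro x hx
    rw [Finset.mem_filter] at hx ⊢
    exact ⟨X.mem g hx.1, X.inv g hx.2.1, X.inv g hx.2.2⟩
  · intro x _ y _ h
    exact (X.ρ g).injective h
  · intro y hy
    rw [Finset.mem_filter] at hy
    refine ⟨X.ρ g⁻¹ y, ?_, ?_⟩
    · rw [Finset.mem_filter, ← X.mem_iff g, ← X.inv_iff g c, ← X.inv_iff g d, map_inv, papply_inv]
      exact hy
    · rw [map_inv, papply_inv]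
  · intro x _
    rfl

theorem A1_act (ψ : ℕ → ℕ → ℂ) (g : G) (c d : ℕ) :
    X.A1 (fun c d => ψ (X.ρ g c) (X.ρ g d)) c d = X.A1 ψ (X.ρ g c) (X.ρ g d) := by
  unfold A1
  rw [hf_act, hf_act]

theorem CC_act (ψ : ℕ → ℕ → ℂ) (g : G) (c d : ℕ) :
    X.CC (fun c d => ψ (X.ρ g c) (X.ρ g d)) c d = X.CC ψ (X.ρ g c) (X.ρ g d) := by
  unfold CC
  refine Finset.sum_bij (fun x _ => X.ρ g x) (fun x hx => X.mem g hx) ?_ ?_ ?_
  · intro x _ y _ h
    exact (X.ρ g).injective h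
  · intro y hy
    refine ⟨X.ρ g⁻¹ y, X.mem _ hy, ?_⟩
    rw [map_inv, papply_inv]
  · intro x hx
    rw [X.ht g hx]
    simp only [map_mul, map_inv, Equiv.Perm.mul_apply, pinv_apply]

theorem hf_add (ψ ψ' : ℕ → ℕ → ℂ) (c d : ℕ) :
    X.hf (fun c d => ψ c d + ψ' c d) c d = X.hf ψ c d + X.hf ψ' c d := by
  unfold hf
  rw [← Finset.sum_add_distrib]

theorem hf_mul (z : ℂ) (ψ : ℕ → ℕ → ℂ) (c d : ℕ) : X.hf (fun c d => z * ψ c d) c d = z * X.hf ψ c d := by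
  unfold hf
  rw [Finset.mul_sum]

theorem hf_sum {ι : Type*} (s : Finset ι) (ψ : ι → ℕ → ℕ → ℂ) (c d : ℕ) :
    X.hf (fun c d => ∑ i ∈ s, ψ i c d) c d = ∑ i ∈ s, X.hf (ψ i) c d := by
  unfold hf
  rw [Finset.sum_comm]

theorem A1_add (ψ ψ' : ℕ → ℕ → ℂ) (c d : ℕ) :
    X.A1 (fun c d => ψ c d + ψ' c d) c d = X.A1 ψ c d + X.A1 ψ' c d := by
  unfold A1
  rw [hf_add, hf_add]
  ring

theorem A1_mul (z : ℂ) (ψ : ℕ → ℕ → ℂ) (c d : ℕ) : X.A1 (fun c d => z * ψ c d) c d = z * X.A1 ψ c d := by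
  unfold A1
  rw [hf_mul, hf_mul]
  ring

theorem CC_add (ψ ψ' : ℕ → ℕ → ℂ) (c d : ℕ) :
    X.CC (fun c d => ψ c d + ψ' c d) c d = X.CC ψ c d + X.CC ψ' c d := by
  unfold CC
  rw [← Finset.sum_add_distrib]

theorem CC_mul (z : ℂ) (ψ : ℕ → ℕ → ℂ) (c d : ℕ) : X.CC (fun c d => z * ψ c d) c d = z * X.CC ψ c d := by
  unfold CC
  rw [Finset.mul_sum]

/-- the operators commute -/
theorem A1_CC (ψ : ℕ → ℕ → ℂ) (c d : ℕ) : X.A1 (X.CC ψ) c d = X.CC (X.A1 ψ) c d := by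
  have h1 : X.A1 (X.CC ψ) c d = ∑ y ∈ X.PT, X.A1 (fun c d => ψ (X.ρ (X.t y) c) (X.ρ (X.t y) d)) c d := by
    unfold A1
    rw [Finset.sum_add_distrib, ← hf_sum, ← hf_sum]
    rfl
  rw [h1]
  show _ = ∑ y ∈ X.PT, X.A1 ψ (X.ρ (X.t y) c) (X.ρ (X.t y) d)
  exact Finset.sum_congr rfl fun y _ => A1_act ψ (X.t y) c d

theorem IsFn.CC {ψ : ℕ → ℕ → ℂ} (h : IsFn X ψ) : IsFn X (X.CC ψ) where
  symm _ _ := Finset.sum_congr rfl fun _ _ => h.symm _ _
  zero _ _ hcd := Finset.sum_eq_zero fun _ _ => h.zero _ _ fun h' => hcd ((X.inv_iff _ _ _).1 h')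

/-- invariance under `K` -/
def KInv (X : Ctx G) (ψ : ℕ → ℕ → ℂ) : Prop := ∀ g ∈ X.K, ∀ c d, ψ (X.ρ g c) (X.ρ g d) = ψ c d

theorem KInv.hf {ψ : ℕ → ℕ → ℂ} (h : KInv X ψ) : KInv X (X.hf ψ) := by
  intro g hg c d
  rw [← hf_act]
  have h1 : (fun c d => ψ (X.ρ g c) (X.ρ g d)) = ψ := by funext c d; exact h g hg c d
  rw [h1]

theorem KInv.A1 {ψ : ℕ → ℕ → ℂ} (h : KInv X ψ) : KInv X (X.A1 ψ) := by
  intro g hg c d
  unfold Ctx.A1
  rw [h.hf g hg, h.hf g hg]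

theorem KInv.CC {ψ : ℕ → ℕ → ℂ} (h : KInv X ψ) : KInv X (X.CC ψ) := by
  intro g hg c d
  rw [← CC_act]
  have h1 : (fun c d => ψ (X.ρ g c) (X.ρ g d)) = ψ := by funext c d; exact h g hg c d
  rw [h1]

/-! ### Sums over `E` -/

theorem sum_E [Fintype X.E] (F : X.E → ℂ) : 2 * ∑ e : X.E, F e = ∑ c ∈ X.PT, ∑ d ∈ X.PT, X.ev F c d := by
  let OP : Finset (ℕ × ℕ) := (X.PT ×ˢ X.PT).filter fun p => X.com p.1 p.2
  have hOP : ∀ p, p ∈ OP ↔ X.com p.1 p.2 := by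
    intro p
    rw [Finset.mem_filter, Finset.mem_product]
    exact ⟨fun h => h.2, fun h => ⟨⟨X.com_mem h, X.com_mem (X.symm h)⟩, h⟩⟩
  have h1 : ∑ c ∈ X.PT, ∑ d ∈ X.PT, X.ev F c d = ∑ p ∈ OP, X.ev F p.1 p.2 := by
    rw [← Finset.sum_product', Finset.sum_filter]
    refine Finset.sum_congr rfl fun p _ => ?_
    by_cases h : X.com p.1 p.2
    · rw [if_pos h]
    · rw [if_neg h, ev_not h]
  rw [h1, Finset.mul_sum]
  let π : ℕ × ℕ → X.E := fun p => if h : X.com p.1 p.2 then X.pr h else X.pr X.hab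
  have hπ : ∀ p ∈ OP, X.ev F p.1 p.2 = F (π p) := by
    intro p hp
    have h := (hOP p).1 hp
    rw [ev_of h]
    show F (X.pr h) = F (dite _ _ _)
    rw [dif_pos h]
  rw [Finset.sum_congr rfl hπ, ← Finset.sum_fiberwise_of_maps_to (t := Finset.univ) (g := π)
    (fun _ _ => Finset.mem_univ _)]
  refine Finset.sum_congr rfl fun e _ => ?_
  have h2 : ∀ p ∈ OP.filter (fun p => π p = e), F (π p) = F e := by
    intro p hp
    rw [(Finset.mem_filter.1 hp).2]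
  rw [Finset.sum_congr rfl h2, Finset.sum_const, nsmul_eq_mul]
  congr 1
  obtain ⟨c, d, h, rfl⟩ := X.exists_pr e
  have h3 : OP.filter (fun p => π p = X.pr h) = {(c, d), (d, c)} := by
    ext ⟨x, y⟩
    rw [Finset.mem_filter, hOP, Finset.mem_insert, Finset.mem_singleton, Prod.mk.injEq, Prod.mk.injEq]
    constructor
    · rintro ⟨h4, h5⟩
      have h6 : π (x, y) = X.pr h4 := dif_pos h4
      rw [h6, X.pr_eq] at h5
      exact h5
    · intro h5
      have h4 : X.com x y := by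
        rcases h5 with ⟨rfl, rfl⟩ | ⟨rfl, rfl⟩
        · exact h
        · exact X.symm h
      refine ⟨h4, ?_⟩
      have h6 : π (x, y) = X.pr h4 := dif_pos h4
      rw [h6, X.pr_eq]
      exact h5
  rw [h3, Finset.card_pair (by
    rw [Ne, Prod.mk.injEq]
    exact fun h' => X.ne h h'.1)]
  norm_num

/-! ### The theorem -/

/-- the space -/
def V (X : Ctx G) (P : Prop) (τ ω : ℂ) : Submodule ℂ (X.E → ℂ) where
  carrier := {φ | ∀ c d, X.com c d → X.A1 (X.ev φ) c d = τ * X.ev φ c d ∧ (P → X.CC (X.ev φ) c d = ω * X.ev φ c d)}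
  add_mem' := by
    intro φ φ' h1 h2 c d h
    have e : X.ev (φ + φ') = fun c d => X.ev φ c d + X.ev φ' c d := by funext c d; exact ev_add φ φ' c d
    rw [e, A1_add, (h1 c d h).1, (h2 c d h).1]
    refine ⟨by ring, fun hP => ?_⟩
    rw [CC_add, (h1 c d h).2 hP, (h2 c d h).2 hP]
    ring
  zero_mem' := by
    intro c d h
    have e : X.ev 0 = fun c d => 0 * X.ev 0 c d := by
      funext c d
      rw [← ev_smul]
      simp
    refine ⟨?_, fun _ => ?_⟩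
    · rw [e, A1_mul]; ring
    · rw [e, CC_mul]; ring
  smul_mem' := by
    intro z φ h1 c d h
    have e : X.ev (z • φ) = fun c d => z * X.ev φ c d := by funext c d; exact ev_smul z φ c d
    rw [e, A1_mul, (h1 c d h).1]
    refine ⟨by ring, fun hP => ?_⟩
    rw [CC_mul, (h1 c d h).2 hP]
    ring

theorem mem_V {P : Prop} {τ ω : ℂ} {φ : X.E → ℂ} : φ ∈ X.V P τ ω ↔
    ∀ c d, X.com c d → X.A1 (X.ev φ) c d = τ * X.ev φ c d ∧ (P → X.CC (X.ev φ) c d = ω * X.ev φ c d) := Iff.rfl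

theorem V_inv {P : Prop} {τ ω : ℂ} (g : G) (φ : X.E → ℂ) (hφ : φ ∈ X.V P τ ω) :
    (fun e => φ (g⁻¹ • e)) ∈ X.V P τ ω := by
  rw [mem_V] at hφ ⊢
  intro c d h
  have e : X.ev (fun e => φ (g⁻¹ • e)) = fun c d => X.ev φ (X.ρ g⁻¹ c) (X.ρ g⁻¹ d) := by
    funext c d; exact ev_smul_act φ g⁻¹ c d
  rw [e, A1_act, (hφ _ _ (X.inv g⁻¹ h)).1]
  refine ⟨rfl, fun hP => ?_⟩
  rw [CC_act, (hφ _ _ (X.inv g⁻¹ h)).2 hP]

/-- **Degrees from eigenfunctions.** -/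
theorem exists_deg [Finite G] {P : Prop} {τ ω : ℂ} {v : ℕ → ℕ → ℂ} (hv : IsFn X v) (hv1 : v X.a X.b = 1)
    (hA : ∀ c d, X.com c d → X.A1 v c d = τ * v c d) (hC : P → ∀ c d, X.com c d → X.CC v c d = ω * v c d)
    (huniq : ∀ ψ, IsFn X ψ → KInv X ψ → (∀ c d, X.com c d → X.A1 ψ c d = τ * ψ c d) →
      (P → ∀ c d, X.com c d → X.CC ψ c d = ω * ψ c d) → ∀ c d, X.com c d → ψ c d = ψ X.a X.b * v c d)
    {d : ℕ} {n2 s2 : ℂ} (hn : ∑ x ∈ X.PT, ∑ y ∈ X.PT, v x y * conj (v x y) = s2)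
    (hE : ∑ x ∈ X.PT, ∑ y ∈ X.PT, X.ev 1 x y = n2) (hd : (d : ℂ) * s2 = n2) :
    ∃ χ : IrrCharacter G, charDegree (χ : G → ℂ) = d := by
  have := Fintype.ofFinite X.E
  obtain ⟨φ, hφ⟩ := exists_ev hv
  have hφV : φ ∈ X.V P τ ω := by
    rw [mem_V]
    intro c d h
    rw [hφ]
    exact ⟨hA c d h, fun hP => hC hP c d h⟩
  have hx0 : ∀ g ∈ X.K, g • X.pr X.hab = X.pr X.hab := by
    intro g hg
    rw [X.smul_pr, X.pr_eq]
    exact X.hK g hg
  have h1 : φ (X.pr X.hab) = 1 := by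
    rw [← ev_of (φ := φ) X.hab, hφ, hv1]
  obtain ⟨χ, hχ, -⟩ := H678.DG.Sph.exists_of_spherical' (V := X.V P τ ω) V_inv (X.pr X.hab) hφV h1 X.K hx0 (by
    intro φ' hφ' hK
    rw [mem_V] at hφ'
    refine ⟨φ' (X.pr X.hab), ev_inj ?_⟩
    have hKI : KInv X (X.ev φ') := by
      intro g hg c d
      rw [← ev_smul_act]
      congr 1
      funext e
      exact hK g hg e
    have h2 := huniq (X.ev φ') (isFn_ev φ') hKI (fun c d h => (hφ' c d h).1) (fun hP c d h => (hφ' c d h).2 hP)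
    funext c d
    by_cases h : X.com c d
    · rw [h2 c d h, ev_smul, hφ, ev_of X.hab]
    · rw [ev_not h, ev_not h])
  refine ⟨χ, ?_⟩
  have hnrm : 2 * H678.DG.Sph.nrm φ = s2 := by
    unfold H678.DG.Sph.nrm
    rw [sum_E, ← hn]
    refine Finset.sum_congr rfl fun x _ => Finset.sum_congr rfl fun y _ => ?_
    by_cases h : X.com x y
    · rw [ev_of h, ← hφ, ev_of h]
    · rw [ev_not h, hv.zero x y h, zero_mul]
  have hcard : 2 * (Fintype.card X.E : ℂ) = n2 := by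
    rw [← hE, ← sum_E]
    simp
  have h0 := H678.DG.Sph.nrm_ne_zero h1
  have h3 : (charDegree (χ : G → ℂ) : ℂ) * H678.DG.Sph.nrm φ = d * H678.DG.Sph.nrm φ := by
    rw [hχ]
    have h4 : (2 : ℂ) * (Fintype.card X.E : ℂ) = 2 * (d * H678.DG.Sph.nrm φ) := by
      rw [hcard, ← hd, ← hnrm]; ring
    exact mul_left_cancel₀ (by norm_num) h4
  have h4 := mul_right_cancel₀ h0 h3
  exact_mod_cast h4

end Ctx

end Cfsg.Agent.H30.PairFn
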