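import Cfsg.Agent.H30.PairFn

/-!
# Functions on unordered pairs of points: orbits and the class sum of the transpositions (helper30)

* `Orbs` : the orbits of `K` on the ordered related pairs.
* `Tr` : the elements `t x` behave as 3-transpositions; `CC_eq` : the second operator.
-/

set_option autoImplicit false

namespace Cfsg.Agent.H30.PairFn

attribute [local instance] Classical.propDecidable

universe u

namespace Ctx

variable {G : Type u} [Group G]

/-! ### Transpositions -/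

/-- The elements `t x` are 3-transpositions. -/
structure Tr (X : Ctx G) : Prop where
  fix : ∀ {c : ℕ}, c ∈ X.PT → X.ρ (X.t c) c = c
  com : ∀ {c x : ℕ}, X.com c x → X.ρ (X.t c) x = x
  non : ∀ {c x : ℕ}, c ∈ X.PT → x ∈ X.PT → c ≠ x → ¬ X.com c x → X.ρ (X.t c) x = X.ρ (X.t x) c
  sq : ∀ {c : ℕ}, c ∈ X.PT → X.t c * X.t c = 1

/-- the part of the relation `2` -/
noncomputable def ha (X : Ctx G) (ψ : ℕ → ℕ → ℂ) (c d : ℕ) : ℂ :=
  ∑ y ∈ X.PT.filter (fun y => X.com c y ∧ ¬ X.com d y ∧ y ≠ d), ψ c y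

/-- the generic part -/
noncomputable def s5 (X : Ctx G) (ψ : ℕ → ℕ → ℂ) (c d : ℕ) : ℂ :=
  ∑ y ∈ X.PT.filter (fun y => y ≠ c ∧ y ≠ d ∧ ¬ X.com c y ∧ ¬ X.com d y), ψ y (X.ρ (X.t d * X.t c) y)

variable {X : Ctx G}

theorem Tr.inv_eq (h : Tr X) {c : ℕ} (hc : c ∈ X.PT) (x : ℕ) : X.ρ (X.t c) (X.ρ (X.t c) x) = x := by
  rw [← Equiv.Perm.mul_apply, ← map_mul, h.sq hc, map_one]
  rfl

theorem CC_eq (h : Tr X) {ψ : ℕ → ℕ → ℂ} (hψ : IsFn X ψ) {c d : ℕ} (hcd : X.com c d) :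
    X.CC ψ c d = (2 + ((X.PT.filter fun x => X.com c x ∧ X.com d x).card : ℂ)) * ψ c d + X.ha ψ c d + X.ha ψ d c +
      X.s5 ψ c d := by
  have hc := X.com_mem hcd
  have hd := X.com_mem (X.symm hcd)
  have hne := X.ne hcd
  have hcd' : X.ρ (X.t c) d = d := h.com hcd
  have hdc' : X.ρ (X.t d) c = c := h.com (X.symm hcd)
  -- the parts
  set S1 := X.PT.filter fun x => X.com c x ∧ X.com d x with hS1
  set S2 := X.PT.filter (fun y => X.com c y ∧ ¬ X.com d y ∧ y ≠ d) with hS2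
  set S3 := X.PT.filter (fun y => X.com d y ∧ ¬ X.com c y ∧ y ≠ c) with hS3
  set S4 := X.PT.filter (fun y => y ≠ c ∧ y ≠ d ∧ ¬ X.com c y ∧ ¬ X.com d y) with hS4
  have irr : ∀ x, ¬ X.com x x := fun x hx => X.ne hx rfl
  have hPT : X.PT = insert c (insert d (S1 ∪ (S2 ∪ (S3 ∪ S4)))) := by
    ext x
    simp only [Finset.mem_insert, Finset.mem_union, hS1, hS2, hS3, hS4, Finset.mem_filter]
    constructor
    · intro hx
      by_cases h1 : x = c
      · exact Or.inl h1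
      · by_cases h2 : x = d
        · exact Or.inr (Or.inl h2)
        · by_cases h3 : X.com c x <;> by_cases h4 : X.com d x <;> tauto
    · rintro (rfl | rfl | h1 | h1 | h1 | h1)
      · exact hc
      · exact hd
      all_goals exact h1.1
  have hF : ∀ {x}, x ∈ X.PT → X.com c x → X.ρ (X.t x) c = c := fun hx hcx => h.com (X.symm hcx)
  let F : ℕ → ℂ := fun x => ψ (X.ρ (X.t x) c) (X.ρ (X.t x) d)
  have hsum : X.CC ψ c d = F c + (F d + (∑ x ∈ S1, F x + (∑ x ∈ S2, F x + (∑ x ∈ S3, F x + ∑ x ∈ S4, F x)))) := by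
    show ∑ x ∈ X.PT, F x = _
    have d1 : Disjoint S3 S4 := by
      rw [Finset.disjoint_left]
      intro x hx hx'
      rw [hS3, Finset.mem_filter] at hx
      rw [hS4, Finset.mem_filter] at hx'
      exact hx'.2.2.2.2 hx.2.1
    have d2 : Disjoint S2 (S3 ∪ S4) := by
      rw [Finset.disjoint_left]
      intro x hx hx'
      rw [hS2, Finset.mem_filter] at hx
      rw [Finset.mem_union, hS3, hS4, Finset.mem_filter, Finset.mem_filter] at hx'
      rcases hx' with h1 | h1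
      · exact h1.2.2.1 hx.2.1
      · exact h1.2.2.2.1 hx.2.1
    have d3 : Disjoint S1 (S2 ∪ (S3 ∪ S4)) := by
      rw [Finset.disjoint_left]
      intro x hx hx'
      rw [hS1, Finset.mem_filter] at hx
      rw [Finset.mem_union, Finset.mem_union, hS2, hS3, hS4, Finset.mem_filter, Finset.mem_filter,
        Finset.mem_filter] at hx'
      rcases hx' with h1 | h1 | h1
      · exact h1.2.2.1 hx.2.2
      · exact h1.2.2.1 hx.2.1
      · exact h1.2.2.2.1 hx.2.1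
    have hcn : c ∉ insert d (S1 ∪ (S2 ∪ (S3 ∪ S4))) := by
      simp only [Finset.mem_insert, Finset.mem_union, hS1, hS2, hS3, hS4, Finset.mem_filter]
      rintro (h1 | h1 | h1 | h1 | h1)
      · exact hne h1
      · exact irr _ h1.2.1
      · exact irr _ h1.2.1
      · exact h1.2.2.2 rfl
      · exact h1.2.1 rfl
    have hdn : d ∉ (S1 ∪ (S2 ∪ (S3 ∪ S4))) := by
      simp only [Finset.mem_union, hS1, hS2, hS3, hS4, Finset.mem_filter]
      rintro (h1 | h1 | h1 | h1)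
      · exact irr _ h1.2.2
      · exact h1.2.2.2 rfl
      · exact irr _ h1.2.1
      · exact h1.2.2.1 rfl
    conv_lhs => rw [hPT]
    rw [Finset.sum_insert hcn, Finset.sum_insert hdn, Finset.sum_union d3, Finset.sum_union d2, Finset.sum_union d1]
  -- values
  have e1 : F c = ψ c d := by
    show ψ (X.ρ (X.t c) c) (X.ρ (X.t c) d) = _
    rw [h.fix hc, hcd']
  have e2 : F d = ψ c d := by
    show ψ (X.ρ (X.t d) c) (X.ρ (X.t d) d) = _
    rw [h.fix hd, hdc']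
  have e3 : ∑ x ∈ S1, F x = (S1.card : ℂ) * ψ c d := by
    have : ∀ x ∈ S1, F x = ψ c d := by
      intro x hx
      rw [hS1, Finset.mem_filter] at hx
      show ψ (X.ρ (X.t x) c) (X.ρ (X.t x) d) = _
      rw [h.com (X.symm hx.2.1), h.com (X.symm hx.2.2)]
    rw [Finset.sum_congr rfl this, Finset.sum_const, nsmul_eq_mul]
  have e4 : ∑ x ∈ S2, F x = X.ha ψ c d := by
    show _ = ∑ y ∈ S2, ψ c y
    refine Finset.sum_bij (fun x _ => X.ρ (X.t d) x) ?_ ?_ ?_ ?_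
    · intro x hx
      rw [hS2, Finset.mem_filter] at hx ⊢
      refine ⟨X.mem _ hx.1, ?_, ?_, ?_⟩
      · rw [← hdc', X.inv_iff]; exact hx.2.1
      · intro h1
        apply hx.2.2.1
        have h2 := X.inv (X.t d) h1
        rwa [h.fix hd, h.inv_eq hd] at h2
      · intro h1
        apply hx.2.2.2
        rw [← h.inv_eq hd x, h1, h.fix hd]
    · intro x _ y _ hxy
      exact (X.ρ (X.t d)).injective hxy
    · intro y hy
      refine ⟨X.ρ (X.t d) y, ?_, h.inv_eq hd y⟩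
      rw [hS2, Finset.mem_filter] at hy ⊢
      refine ⟨X.mem _ hy.1, ?_, ?_, ?_⟩
      · rw [← hdc', X.inv_iff]; exact hy.2.1
      · intro h1
        apply hy.2.2.1
        have h2 := X.inv (X.t d) h1
        rwa [h.fix hd, h.inv_eq hd] at h2
      · intro h1
        apply hy.2.2.2
        rw [← h.inv_eq hd y, h1, h.fix hd]
    · intro x hx
      rw [hS2, Finset.mem_filter] at hx
      show ψ (X.ρ (X.t x) c) (X.ρ (X.t x) d) = _
      rw [h.com (X.symm hx.2.1), h.non hx.1 hd hx.2.2.2 (fun h' => hx.2.2.1 (X.symm h'))]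
  have e5 : ∑ x ∈ S3, F x = X.ha ψ d c := by
    show _ = ∑ y ∈ S3, ψ d y
    refine Finset.sum_bij (fun x _ => X.ρ (X.t c) x) ?_ ?_ ?_ ?_
    · intro x hx
      rw [hS3, Finset.mem_filter] at hx ⊢
      refine ⟨X.mem _ hx.1, ?_, ?_, ?_⟩
      · rw [← hcd', X.inv_iff]; exact hx.2.1
      · intro h1
        apply hx.2.2.1
        have h2 := X.inv (X.t c) h1
        rwa [h.fix hc, h.inv_eq hc] at h2
      · intro h1
        apply hx.2.2.2
        rw [← h.inv_eq hc x, h1, h.fix hc]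
    · intro x _ y _ hxy
      exact (X.ρ (X.t c)).injective hxy
    · intro y hy
      refine ⟨X.ρ (X.t c) y, ?_, h.inv_eq hc y⟩
      rw [hS3, Finset.mem_filter] at hy ⊢
      refine ⟨X.mem _ hy.1, ?_, ?_, ?_⟩
      · rw [← hcd', X.inv_iff]; exact hy.2.1
      · intro h1
        apply hy.2.2.1
        have h2 := X.inv (X.t c) h1
        rwa [h.fix hc, h.inv_eq hc] at h2
      · intro h1
        apply hy.2.2.2
        rw [← h.inv_eq hc y, h1, h.fix hc]
    · intro x hx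
      rw [hS3, Finset.mem_filter] at hx
      show ψ (X.ρ (X.t x) c) (X.ρ (X.t x) d) = _
      rw [h.com (X.symm hx.2.1), h.non hx.1 hc hx.2.2.2 (fun h' => hx.2.2.1 (X.symm h')), hψ.symm]
  have e6 : ∑ x ∈ S4, F x = X.s5 ψ c d := by
    show _ = ∑ y ∈ S4, ψ y (X.ρ (X.t d * X.t c) y)
    refine Finset.sum_bij (fun x _ => X.ρ (X.t c) x) ?_ ?_ ?_ ?_
    · intro x hx
      rw [hS4, Finset.mem_filter] at hx ⊢
      refine ⟨X.mem _ hx.1, ?_, ?_, ?_, ?_⟩
      · intro h1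
        apply hx.2.1
        rw [← h.inv_eq hc x, h1, h.fix hc]
      · intro h1
        apply hx.2.2.1
        rw [← h.inv_eq hc x, h1, hcd']
      · intro h1
        apply hx.2.2.2.1
        have h2 := X.inv (X.t c) h1
        rwa [h.fix hc, h.inv_eq hc] at h2
      · intro h1
        apply hx.2.2.2.2
        have h2 := X.inv (X.t c) h1
        rwa [hcd', h.inv_eq hc] at h2
    · intro x _ y _ hxy
      exact (X.ρ (X.t c)).injective hxy
    · intro y hy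
      refine ⟨X.ρ (X.t c) y, ?_, h.inv_eq hc y⟩
      rw [hS4, Finset.mem_filter] at hy ⊢
      refine ⟨X.mem _ hy.1, ?_, ?_, ?_, ?_⟩
      · intro h1
        apply hy.2.1
        rw [← h.inv_eq hc y, h1, h.fix hc]
      · intro h1
        apply hy.2.2.1
        rw [← h.inv_eq hc y, h1, hcd']
      · intro h1
        apply hy.2.2.2.1
        have h2 := X.inv (X.t c) h1
        rwa [h.fix hc, h.inv_eq hc] at h2
      · intro h1
        apply hy.2.2.2.2
        have h2 := X.inv (X.t c) h1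
        rwa [hcd', h.inv_eq hc] at h2
    · intro x hx
      rw [hS4, Finset.mem_filter] at hx
      show ψ (X.ρ (X.t x) c) (X.ρ (X.t x) d) = _
      rw [h.non hx.1 hc hx.2.1 (fun h' => hx.2.2.2.1 (X.symm h')),
        h.non hx.1 hd hx.2.2.1 (fun h' => hx.2.2.2.2 (X.symm h')), map_mul, Equiv.Perm.mul_apply, h.inv_eq hc]
  rw [hsum, e1, e2, e3, e4, e5, e6]
  ring

theorem KInv.ha {ψ : ℕ → ℕ → ℂ} (h : KInv X ψ) : KInv X (X.ha ψ) := by
  intro g hg c d
  unfold Ctx.ha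
  symm
  refine Finset.sum_bij (fun x _ => X.ρ g x) ?_ ?_ ?_ ?_
  · intro x hx
    rw [Finset.mem_filter] at hx ⊢
    refine ⟨X.mem g hx.1, X.inv g hx.2.1, fun h' => hx.2.2.1 ((X.inv_iff _ _ _).1 h'), fun h' => hx.2.2.2 ?_⟩
    exact (X.ρ g).injective h'
  · intro x _ y _ h
    exact (X.ρ g).injective h
  · intro y hy
    rw [Finset.mem_filter] at hy
    refine ⟨X.ρ g⁻¹ y, ?_, ?_⟩
    · rw [Finset.mem_filter, ← X.mem_iff g, ← X.inv_iff g c, ← X.inv_iff g d, map_inv, papply_inv]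
      refine ⟨hy.1, hy.2.1, hy.2.2.1, fun h' => hy.2.2.2 ?_⟩
      rw [← h', papply_inv]
    · rw [map_inv, papply_inv]
  · intro x _
    exact (h g hg c x).symm

/-! ### The orbits of `K` on the ordered related pairs -/

/-- An orbit of the stabiliser of the representative of type `τ`. -/
structure Ent where
  Q : ℕ
  d : ℕ
  k : ℕ
  τ' : ℕ

/-- The orbits of `K`. -/
structure Orbs (X : Ctx G) (cls : ℕ → ℕ → ℕ) (T : ℕ → ℕ) (n : ℕ) (c : ℕ → ℕ) (ent : ℕ → List Ent) : Prop where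
  csymm : ∀ x y, cls x y = cls y x
  cinv : ∀ g ∈ X.K, ∀ x y, cls (X.ρ g x) (X.ρ g y) = cls x y
  tinv : ∀ g ∈ X.K, ∀ x, T (X.ρ g x) = T x
  rep : ∀ x ∈ X.PT, T x < n ∧ ∃ g ∈ X.K, X.ρ g (c (T x)) = x
  cover : ∀ τ < n, ∀ x, X.com (c τ) x → ∃ e ∈ ent τ, e.Q.testBit x = true
  orb : ∀ τ < n, ∀ e ∈ ent τ, ∀ x, e.Q.testBit x = true → ∃ g ∈ X.K, X.ρ g (c τ) = c τ ∧ X.ρ g e.d = x
  dcom : ∀ τ < n, ∀ e ∈ ent τ, X.com (c τ) e.d
  cl : ∀ τ < n, ∀ e ∈ ent τ, cls (c τ) e.d = e.k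
  ty : ∀ τ < n, ∀ e ∈ ent τ, T e.d = e.τ'
  tyc : ∀ τ < n, T (c τ) = τ
  tab : ∀ τ < n, ∀ e ∈ ent τ, ∀ τ₂ < n, ∀ e₂ ∈ ent τ₂, e.k = e₂.k → (τ = τ₂ → e.d = e₂.d) ∧ (τ = τ₂ ∨ τ₂ = e.τ')

variable {cls : ℕ → ℕ → ℕ} {T : ℕ → ℕ} {n : ℕ} {c : ℕ → ℕ} {ent : ℕ → List Ent}

/-- every related ordered pair is conjugate to a representative -/
theorem Orbs.exists_ent (h : Orbs X cls T n c ent) {x y : ℕ} (hxy : X.com x y) :
    ∃ e ∈ ent (T x), T x < n ∧ T y = e.τ' ∧ cls x y = e.k ∧ ∃ g ∈ X.K, X.ρ g (c (T x)) = x ∧ X.ρ g e.d = y := by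
  obtain ⟨hn, g, hg, hgx⟩ := h.rep x (X.com_mem hxy)
  have h1 : X.com (c (T x)) (X.ρ g⁻¹ y) := by
    rw [← X.inv_iff g, hgx, map_inv, papply_inv]
    exact hxy
  obtain ⟨e, he, hQ⟩ := h.cover _ hn _ h1
  obtain ⟨k, hk, hk1, hk2⟩ := h.orb _ hn e he _ hQ
  have e1 : X.ρ (g * k) (c (T x)) = x := by rw [map_mul, Equiv.Perm.mul_apply, hk1, hgx]
  have e2 : X.ρ (g * k) e.d = y := by rw [map_mul, Equiv.Perm.mul_apply, hk2, map_inv, papply_inv]
  have hgk : g * k ∈ X.K := X.K.mul_mem hg hk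
  refine ⟨e, he, hn, ?_, ?_, g * k, hgk, e1, e2⟩
  · rw [← h.ty _ hn e he, ← h.tinv _ hgk e.d, e2]
  · have h2 := h.cinv _ hgk (c (T x)) e.d
    rw [e1, e2] at h2
    rw [h2, h.cl _ hn e he]

theorem Orbs.eq_of_cls (h : Orbs X cls T n c ent) {ψ : ℕ → ℕ → ℂ} (hψ : IsFn X ψ) (hK : KInv X ψ) {x y x' y' : ℕ}
    (hxy : X.com x y) (hxy' : X.com x' y') (hc : cls x y = cls x' y') : ψ x y = ψ x' y' := by
  obtain ⟨e, he, hn, ht, hk, g, hg, h1, h2⟩ := h.exists_ent hxy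
  obtain ⟨e', he', hn', ht', hk', g', hg', h1', h2'⟩ := h.exists_ent hxy'
  have v : ψ x y = ψ (c (T x)) e.d := by rw [← hK g hg (c (T x)) e.d, h1, h2]
  have v' : ψ x' y' = ψ (c (T x')) e'.d := by rw [← hK g' hg' (c (T x')) e'.d, h1', h2']
  have hkk : e.k = e'.k := by rw [← hk, ← hk', hc]
  obtain ⟨t1, t2⟩ := h.tab _ hn e he _ hn' e' he' hkk
  rcases t2 with t2 | t2
  · rw [v, v', t1 t2, t2]
  · -- the reversed pair
    obtain ⟨f, hf, hm, hs, hl, k, hk0, h3, h4⟩ := h.exists_ent (X.symm hxy)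
    have w : ψ y x = ψ (c (T y)) f.d := by rw [← hK k hk0 (c (T y)) f.d, h3, h4]
    have hty : T y = T x' := by rw [ht, t2]
    have hkf : f.k = e'.k := by rw [← hl, h.csymm, hk, hkk]
    obtain ⟨t3, -⟩ := h.tab _ hm f hf _ hn' e' he' hkf
    rw [hψ.symm, w, v', t3 hty, hty]

/-- an invariant function is a function of the class -/
theorem Orbs.exists_beta (h : Orbs X cls T n c ent) {ψ : ℕ → ℕ → ℂ} (hψ : IsFn X ψ) (hK : KInv X ψ) :
    ∃ β : ℕ → ℂ, ∀ x y, X.com x y → ψ x y = β (cls x y) := by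
  refine ⟨fun k => if h1 : ∃ p : ℕ × ℕ, X.com p.1 p.2 ∧ cls p.1 p.2 = k then ψ h1.choose.1 h1.choose.2 else 0, ?_⟩
  intro x y hxy
  have h1 : ∃ p : ℕ × ℕ, X.com p.1 p.2 ∧ cls p.1 p.2 = cls x y := ⟨(x, y), hxy, rfl⟩
  show ψ x y = dite _ _ _
  rw [dif_pos h1]
  exact h.eq_of_cls hψ hK hxy h1.choose_spec.1 h1.choose_spec.2.symm

/-- a function of the class -/
noncomputable def fn (X : Ctx G) (cls : ℕ → ℕ → ℕ) (β : ℕ → ℂ) (x y : ℕ) : ℂ := if X.com x y then β (cls x y) else 0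

theorem fn_of {β : ℕ → ℂ} {x y : ℕ} (h : X.com x y) : fn X cls β x y = β (cls x y) := if_pos h

theorem Orbs.isFn (h : Orbs X cls T n c ent) (β : ℕ → ℂ) : IsFn X (fn X cls β) where
  symm x y := by
    unfold fn
    rw [h.csymm]
    by_cases h1 : X.com x y
    · rw [if_pos h1, if_pos (X.symm h1)]
    · rw [if_neg h1, if_neg fun h2 => h1 (X.symm h2)]
  zero _ _ h1 := if_neg h1

theorem Orbs.kInv (h : Orbs X cls T n c ent) (β : ℕ → ℂ) : KInv X (fn X cls β) := by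
  intro g hg x y
  unfold fn
  rw [h.cinv g hg]
  by_cases h1 : X.com x y
  · rw [if_pos h1, if_pos (X.inv g h1)]
  · rw [if_neg h1, if_neg fun h2 => h1 ((X.inv_iff g x y).1 h2)]

/-- the value of an invariant function at a related pair -/
theorem Orbs.apply_eq (h : Orbs X cls T n c ent) {F : ℕ → ℕ → ℂ} (hK : KInv X F) {f : ℕ → ℕ → ℂ}
    (hF : ∀ τ < n, ∀ e ∈ ent τ, F (c τ) e.d = f τ e.k) {x y : ℕ} (hxy : X.com x y) :
    F x y = f (T x) (cls x y) := by
  obtain ⟨e, he, hn, ht, hk, g, hg, h1, h2⟩ := h.exists_ent hxy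
  rw [hk, ← hF _ hn e he]
  conv_lhs => rw [← h1, ← h2]
  exact hK g hg _ _

/-- The sum over all the related pairs. -/
theorem Orbs.sum_eq (h : Orbs X cls T n c ent) {F : ℕ → ℕ → ℂ} (hK : KInv X F) {m : ℕ → ℕ}
    (hm : ∀ τ < n, (X.PT.filter fun x => T x = τ).card = m τ) {s : ℕ → ℂ}
    (hs : ∀ τ < n, ∑ y ∈ X.PT, F (c τ) y = s τ) :
    ∑ x ∈ X.PT, ∑ y ∈ X.PT, F x y = ∑ τ ∈ Finset.range n, (m τ : ℂ) * s τ := by
  rw [← Finset.sum_fiberwise_of_maps_to (t := Finset.range n) (g := T)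
    (fun x hx => Finset.mem_range.2 (h.rep x hx).1)]
  refine Finset.sum_congr rfl fun τ hτ => ?_
  rw [Finset.mem_range] at hτ
  have h1 : ∀ x ∈ X.PT.filter (fun x => T x = τ), ∑ y ∈ X.PT, F x y = s τ := by
    intro x hx
    rw [Finset.mem_filter] at hx
    obtain ⟨-, g, hg, hgx⟩ := h.rep x hx.1
    rw [hx.2] at hgx
    rw [← hs τ hτ]
    symm
    refine Finset.sum_bij (fun y _ => X.ρ g y) (fun y hy => X.mem g hy) ?_ ?_ ?_
    · intro y _ z _ hyz
      exact (X.ρ g).injective hyz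
    · intro y hy
      exact ⟨X.ρ g⁻¹ y, X.mem _ hy, by rw [map_inv, papply_inv]⟩
    · intro y _
      rw [← hgx]
      exact (hK g hg _ _).symm
  rw [Finset.sum_congr rfl h1, Finset.sum_const, hm τ hτ, nsmul_eq_mul]

end Ctx

end Cfsg.Agent.H30.PairFn
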