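import Cfsg.Agent.Lib.Involves
import Cfsg.Agent.PLocal.QdSection
import Cfsg.Prelude.Def_PLocal

/-!
# Groups whose automizers of `p`-subgroups do not involve `SL(2, p)`

`AI Q`: `N_G(Q) / C_G(Q)` involves `SL(2, p)`. `Free p G`: no `p`-subgroup `Q` has this property. The condition passes to
subgroups and to quotients by normal `p`-subgroups, and it implies that `Qd(p)` is not involved in `G`.
-/

set_option autoImplicit false

namespace Cfsg.Agent.H30.SlFree

open Subgroup Cfsg
open Cfsg.Agent.Lib.Involves (Involves)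
open Cfsg.Agent.PLocal.QdSection

/-- `N_G(Q) / C_G(Q)` involves `SL(2, p)`. -/
def AI (p : ℕ) {G : Type*} [Group G] (Q : Subgroup G) : Prop :=
  ∃ (H : Subgroup G) (f : H →* S2 p), H ≤ normalizer (Q : Set G) ∧ Function.Surjective f ∧
    ∀ h : H, (h : G) ∈ centralizer (Q : Set G) → f h = 1

/-- No automizer of a `p`-subgroup involves `SL(2, p)`. -/
def Free (p : ℕ) (G : Type*) [Group G] : Prop := ∀ Q : Subgroup G, IsPGroup p Q → ¬ AI p Q

variable {p : ℕ} {G : Type*} [Group G]

/-- The form of the statements. -/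
theorem AI.exists_section {Q : Subgroup G} (h : AI p Q) :
    ∃ (H K : Subgroup G) (_ : (K.subgroupOf H).Normal),
      centralizer (Q : Set G) ≤ K ∧ K ≤ H ∧ H ≤ normalizer (Q : Set G) ∧
      Nonempty ((↥H ⧸ K.subgroupOf H) ≃* Matrix.SpecialLinearGroup (Fin 2) (ZMod p)) := by
  obtain ⟨L, f, hLN, hf, hker⟩ := h
  set N : Subgroup G := normalizer (Q : Set G) with hN
  set C : Subgroup G := centralizer (Q : Set G) with hC
  have hCN : C ≤ N := centralizer_le_normalizer _
  have hn : (C.subgroupOf N).Normal := by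
    rw [normal_subgroupOf_iff_le_normalizer hCN, le_normalizer_iff]
    intro n hn' y hy
    have hn'' : n⁻¹ ∈ N := inv_mem hn'
    rw [hC, mem_centralizer_iff] at hy ⊢
    intro q hq
    have h1 : n⁻¹ * q * n ∈ Q := by
      have := (mem_normalizer_iff.1 hn'' q).1 hq
      simpa using this
    have h2 := hy _ h1
    have h3 := congrArg (fun t => n * t * n⁻¹) h2
    simpa [mul_assoc] using h3
  let π : N →* N ⧸ C.subgroupOf N := QuotientGroup.mk' _
  -- the induced map on the image of `L`
  have hinv : Involves (N ⧸ C.subgroupOf N) (S2 p) := by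
    refine Lib.Involves.of_ker_le (π.comp (Subgroup.inclusion hLN)) f hf ?_
    intro l hl
    rw [MonoidHom.mem_ker] at hl ⊢
    apply hker
    have h1 : (Subgroup.inclusion hLN l) ∈ C.subgroupOf N := by
      rwa [MonoidHom.comp_apply, QuotientGroup.mk'_apply, QuotientGroup.eq_one_iff] at hl
    exact h1
  obtain ⟨B, g, hg⟩ := hinv
  let M : Subgroup N := B.comap π
  let gM : M →* S2 p := g.comp (π.subgroupComap B)
  have hgM : Function.Surjective gM := by
    intro y
    obtain ⟨b, rfl⟩ := hg y
    obtain ⟨n, hnb⟩ := QuotientGroup.mk'_surjective (C.subgroupOf N) (b : N ⧸ C.subgroupOf N)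
    have hnM : n ∈ M := by
      change π n ∈ B
      rw [show π n = (b : N ⧸ C.subgroupOf N) from hnb]
      exact b.2
    refine ⟨⟨n, hnM⟩, ?_⟩
    change g _ = g b
    congr 1
    exact Subtype.ext hnb
  let e : M ≃* (M.map N.subtype : Subgroup G) := M.equivMapOfInjective N.subtype N.subtype_injective
  let f' : (M.map N.subtype : Subgroup G) →* S2 p := gM.comp e.symm.toMonoidHom
  have hf' : Function.Surjective f' := hgM.comp e.symm.surjective
  have hker' : ((f'.ker.map (M.map N.subtype).subtype).subgroupOf (M.map N.subtype)) = f'.ker := by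
    rw [Subgroup.subgroupOf, Subgroup.comap_map_eq_self_of_injective (Subgroup.subtype_injective _)]
  have hn' : ((f'.ker.map (M.map N.subtype).subtype).subgroupOf (M.map N.subtype)).Normal := by
    rw [hker']; infer_instance
  refine ⟨M.map N.subtype, f'.ker.map (M.map N.subtype).subtype, hn', ?_, ?_, ?_, ⟨?_⟩⟩
  · intro c hc
    have hcN : c ∈ N := hCN hc
    have hπ : π ⟨c, hcN⟩ = 1 := (QuotientGroup.eq_one_iff _).2 hc
    have hcM : (⟨c, hcN⟩ : N) ∈ M := by
      change π ⟨c, hcN⟩ ∈ B
      rw [hπ]; exact one_mem _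
    refine ⟨e ⟨⟨c, hcN⟩, hcM⟩, ?_, rfl⟩
    rw [SetLike.mem_coe, MonoidHom.mem_ker]
    change gM (e.symm (e ⟨⟨c, hcN⟩, hcM⟩)) = 1
    rw [MulEquiv.symm_apply_apply]
    change g _ = 1
    rw [← map_one g]
    congr 1
    exact Subtype.ext hπ
  · exact Subgroup.map_subtype_le _
  · exact Subgroup.map_subtype_le M
  · exact (QuotientGroup.quotientMulEquivOfEq hker').trans
      (QuotientGroup.quotientKerEquivOfSurjective f' hf')

/-- `AI` and injective homomorphisms. -/
theorem AI.map {Γ : Type*} [Group Γ] {Q : Subgroup Γ} (h : AI p Q) (j : Γ →* G) (hj : Function.Injective j) :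
    AI p (Q.map j) := by
  obtain ⟨L, f, hLN, hf, hker⟩ := h
  let e : L ≃* (L.map j : Subgroup G) := L.equivMapOfInjective j hj
  have he : ∀ x : (L.map j : Subgroup G), j (e.symm x : Γ) = x := by
    intro x
    obtain ⟨y, rfl⟩ := e.surjective x
    rw [MulEquiv.symm_apply_apply]
    rfl
  refine ⟨L.map j, f.comp e.symm.toMonoidHom, ?_, hf.comp e.symm.surjective, ?_⟩
  · rintro _ ⟨l, hl, rfl⟩
    rw [mem_normalizer_iff_map_conj_eq]
    have h1 := mem_normalizer_iff_map_conj_eq.1 (hLN hl)
    calc (Q.map j).map (MulAut.conj (j l)).toMonoidHom = (Q.map (MulAut.conj l).toMonoidHom).map j := by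
          rw [Subgroup.map_map, Subgroup.map_map]
          congr 1
          ext x
          simp
      _ = Q.map j := congrArg (Subgroup.map j) h1
  · intro x hx
    apply hker
    rw [mem_centralizer_iff] at hx ⊢
    intro q hq
    have h1 := hx (j q) ⟨q, hq, rfl⟩
    apply hj
    rw [map_mul, map_mul]
    change j q * j (e.symm x : Γ) = j (e.symm x : Γ) * j q
    rw [he]
    exact h1

/-- `AI` and quotients. -/
theorem AI.comap {Γ : Type*} [Group Γ] {Q : Subgroup Γ} (h : AI p Q) (π : G →* Γ) (hπ : Function.Surjective π) :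
    AI p (Q.comap π) := by
  obtain ⟨L, f, hLN, hf, hker⟩ := h
  refine ⟨L.comap π, f.comp (π.subgroupComap L), ?_, ?_, ?_⟩
  · intro x hx
    have h1 := hLN (show π x ∈ L from hx)
    rw [mem_normalizer_iff] at h1 ⊢
    intro y
    have := h1 (π y)
    simpa using this
  · refine hf.comp ?_
    rintro ⟨l, hl⟩
    obtain ⟨x, rfl⟩ := hπ l
    exact ⟨⟨x, hl⟩, rfl⟩
  · intro x hx
    apply hker
    rw [mem_centralizer_iff] at hx ⊢
    intro q hq
    obtain ⟨y, rfl⟩ := hπ q
    have h1 := hx y hq
    have := congrArg π h1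
    rw [map_mul, map_mul] at this
    exact this

theorem Free.of_subgroup (h : Free p G) (H : Subgroup G) : Free p H := by
  intro Q hQ hA
  exact h _ (hQ.map _) (hA.map H.subtype H.subtype_injective)

theorem Free.of_surjective {Γ : Type*} [Group Γ] (h : Free p G) (π : G →* Γ) (hπ : Function.Surjective π)
    (hker : IsPGroup p π.ker) : Free p Γ := by
  intro Q hQ hA
  exact h _ (hQ.comap_of_ker_isPGroup π hker) (hA.comap π hπ)

/-! ### `Qd(p)` -/

theorem qd_decomp {M : Matrix.SpecialLinearGroup (Fin 3) (ZMod p)} (hM : M ∈ Cfsg.qd p) :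
    ∃ (v : V p) (A : S2 p), M = transl v * diag A := by
  rw [Cfsg.qd] at hM
  induction hM using Subgroup.closure_induction with
  | mem M h => exact exists_of_row M h.1 h.2.1 h.2.2
  | one => exact ⟨1, 1, by simp⟩
  | mul M N _ _ hM hN =>
    obtain ⟨v, A, rfl⟩ := hM
    obtain ⟨w, B, rfl⟩ := hN
    refine ⟨v * act A w, A * B, ?_⟩
    rw [map_mul, map_mul]
    calc transl v * diag A * (transl w * diag B) = transl v * (diag A * transl w) * diag B := by group
      _ = transl v * transl (act A w) * (diag A * diag B) := by rw [diag_mul_transl]; group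
  | inv M _ hM =>
    obtain ⟨v, A, rfl⟩ := hM
    refine ⟨act A⁻¹ v⁻¹, A⁻¹, ?_⟩
    rw [mul_inv_rev, ← map_inv, ← map_inv, diag_mul_transl]

theorem transl_injective : Function.Injective (transl : V p →* _) := by
  intro v w h
  have h1 := congrArg (fun M : Matrix.SpecialLinearGroup (Fin 3) (ZMod p) =>
    (M : Matrix (Fin 3) (Fin 3) (ZMod p))) h
  simp only [transl_apply] at h1
  have h02 := congrFun (congrFun h1 0) 2
  have h12 := congrFun (congrFun h1 1) 2
  simp at h02 h12
  apply Multiplicative.toAdd.injective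
  funext i
  fin_cases i
  · exact h02
  · exact h12

theorem decomp_unique {v w : V p} {A B : S2 p} (h : transl v * diag A = transl w * diag B) : A = B := by
  have h1 := congrArg (fun M : Matrix.SpecialLinearGroup (Fin 3) (ZMod p) =>
    (M : Matrix (Fin 3) (Fin 3) (ZMod p))) h
  simp only [Matrix.SpecialLinearGroup.coe_mul, transl_apply, diag_apply] at h1
  ext i j
  have h2 := congrFun (congrFun h1 (Fin.castSucc i)) (Fin.castSucc j)
  fin_cases i <;> fin_cases j <;> simpa [Matrix.mul_apply, Fin.sum_univ_three] using h2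

/-- The projection `Qd(p) → SL(2, p)`. -/
noncomputable def rho (p : ℕ) : Cfsg.qd p →* S2 p :=
  MonoidHom.mk' (fun M => Classical.choose (Classical.choose_spec (qd_decomp M.2))) (by
    intro M N
    have hM := Classical.choose_spec (Classical.choose_spec (qd_decomp M.2))
    have hN := Classical.choose_spec (Classical.choose_spec (qd_decomp N.2))
    have hMN := Classical.choose_spec (Classical.choose_spec (qd_decomp (M * N).2))
    set vM := Classical.choose (qd_decomp M.2)
    set AM := Classical.choose (Classical.choose_spec (qd_decomp M.2))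
    set vN := Classical.choose (qd_decomp N.2)
    set AN := Classical.choose (Classical.choose_spec (qd_decomp N.2))
    set v := Classical.choose (qd_decomp (M * N).2)
    set A := Classical.choose (Classical.choose_spec (qd_decomp (M * N).2))
    refine decomp_unique (v := v) (w := vM * act AM vN) ?_
    rw [← hMN, Subgroup.coe_mul, hM, hN, map_mul, map_mul]
    calc transl vM * diag AM * (transl vN * diag AN) = transl vM * (diag AM * transl vN) * diag AN := by group
      _ = transl vM * transl (act AM vN) * (diag AM * diag AN) := by rw [diag_mul_transl]; group)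

theorem rho_spec (M : Cfsg.qd p) : ∃ v : V p, (M : Matrix.SpecialLinearGroup (Fin 3) (ZMod p)) =
    transl v * diag (rho p M) :=
  ⟨_, Classical.choose_spec (Classical.choose_spec (qd_decomp M.2))⟩

theorem rho_eq {M : Cfsg.qd p} {v : V p} {A : S2 p}
    (h : (M : Matrix.SpecialLinearGroup (Fin 3) (ZMod p)) = transl v * diag A) : rho p M = A := by
  obtain ⟨w, hw⟩ := rho_spec M
  exact decomp_unique (hw.symm.trans h)

theorem rho_surjective : Function.Surjective (rho p) := by
  intro A
  exact ⟨⟨diag A, diag_mem_qd A⟩, rho_eq (v := 1) (by simp)⟩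

theorem mem_ker_rho {M : Cfsg.qd p} : M ∈ (rho p).ker ↔
    ∃ v : V p, (M : Matrix.SpecialLinearGroup (Fin 3) (ZMod p)) = transl v := by
  rw [MonoidHom.mem_ker]
  constructor
  · intro h
    obtain ⟨v, hv⟩ := rho_spec M
    rw [h] at hv
    exact ⟨v, by simpa using hv⟩
  · rintro ⟨v, hv⟩
    exact rho_eq (v := v) (by simpa using hv)

/-- Elements of `Qd(p)` centralizing the translations are translations. -/
theorem rho_eq_one_of_comm {M : Cfsg.qd p} (h : ∀ T ∈ (rho p).ker, T * M = M * T) : rho p M = 1 := by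
  obtain ⟨v, hv⟩ := rho_spec M
  apply eq_one_of_act
  intro w
  have h1 := h ⟨transl w, transl_mem_qd w⟩ (mem_ker_rho.2 ⟨w, rfl⟩)
  have h2 := congrArg Subtype.val h1
  simp only [Subgroup.coe_mul] at h2
  rw [hv] at h2
  have h3 : transl (w * v) * diag (rho p M) = transl (v * act (rho p M) w) * diag (rho p M) := by
    calc transl (w * v) * diag (rho p M) = transl w * (transl v * diag (rho p M)) := by rw [map_mul]; group
      _ = transl v * diag (rho p M) * transl w := h2
      _ = transl v * (diag (rho p M) * transl w) := by group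
      _ = transl (v * act (rho p M) w) * diag (rho p M) := by rw [diag_mul_transl, map_mul]; group
  have h4 := transl_injective (mul_right_cancel h3)
  rw [mul_comm w v] at h4
  exact (mul_left_cancel h4).symm

theorem ker_rho_isPGroup : IsPGroup p (rho p).ker := by
  rintro ⟨M, hM⟩
  obtain ⟨v, hv⟩ := mem_ker_rho.1 hM
  refine ⟨1, ?_⟩
  apply Subtype.ext
  apply Subtype.ext
  rw [pow_one, Subgroup.coe_pow, Subgroup.coe_pow, hv, ← map_pow]
  have h1 : v ^ p = 1 := by
    apply Multiplicative.toAdd.injective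
    rw [toAdd_pow]
    funext i
    simp
  rw [h1, map_one]
  rfl

/-- **`SL(2, p)`-free automizers imply that `Qd(p)` is not involved.** -/
theorem Free.not_involves [Finite G] [hp : Fact p.Prime] (h : Free p G) : ¬ Involves G ↥(Cfsg.qd p) := by
  rintro ⟨H, f, hf⟩
  -- `K`: preimage of the translations
  set K : Subgroup H := (rho p).ker.comap f with hK
  obtain ⟨S⟩ : Nonempty (Sylow p K) := inferInstance
  have hKn : K.Normal := by rw [hK]; infer_instance
  let fK : K →* (rho p).ker := f.subgroupComap (rho p).ker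
  have hfK : Function.Surjective fK := by
    rintro ⟨M, hM⟩
    obtain ⟨x, rfl⟩ := hf M
    exact ⟨⟨x, hM⟩, rfl⟩
  -- the image of `S` is everything
  have hS : ∀ M ∈ (rho p).ker, ∃ s ∈ (S : Subgroup K), f (s : H) = M := by
    intro M hM
    have h1 : ((S.mapSurjective hfK : Sylow p (rho p).ker) : Subgroup (rho p).ker) = ⊤ := by
      refine ((S.mapSurjective hfK).is_maximal' ?_ le_top).symm
      exact ker_rho_isPGroup.to_subgroup ⊤
    have h2 : (⟨M, hM⟩ : (rho p).ker) ∈ ((S.mapSurjective hfK : Sylow p (rho p).ker) : Subgroup (rho p).ker) := by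
      rw [h1]; exact mem_top _
    rw [Sylow.coe_mapSurjective] at h2
    obtain ⟨s, hs, hsM⟩ := h2
    exact ⟨s, hs, congrArg Subtype.val hsM⟩
  set Q₀ : Subgroup H := (S : Subgroup K).map K.subtype with hQ₀
  have hfr : normalizer (Q₀ : Set H) ⊔ K = ⊤ := Sylow.normalizer_sup_eq_top S
  have hQ₀p : IsPGroup p Q₀ := S.isPGroup'.map _
  have hAI : AI p Q₀ := by
    refine ⟨normalizer (Q₀ : Set H), (rho p).comp (f.comp (normalizer (Q₀ : Set H)).subtype), le_rfl, ?_, ?_⟩
    · intro A
      obtain ⟨M, rfl⟩ := rho_surjective A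
      obtain ⟨x, rfl⟩ := hf M
      have hx : x ∈ ((normalizer (Q₀ : Set H) ⊔ K : Subgroup H) : Set H) := by rw [hfr]; trivial
      rw [mul_normal] at hx
      obtain ⟨n, hn, k, hk, rfl⟩ := Set.mem_mul.1 hx
      refine ⟨⟨n, hn⟩, ?_⟩
      change rho p (f n) = rho p (f (n * k))
      have hk' : rho p (f k) = 1 := hk
      rw [map_mul, map_mul, hk', mul_one]
    · intro x hx
      change rho p (f x) = 1
      apply rho_eq_one_of_comm
      intro T hT
      obtain ⟨s, hs, rfl⟩ := hS T hT
      have h1 := (mem_centralizer_iff.1 hx) (s : H) ⟨s, hs, rfl⟩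
      have := congrArg f h1
      simpa using this
  exact h _ (hQ₀p.map _) (hAI.map H.subtype H.subtype_injective)

end Cfsg.Agent.H30.SlFree
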